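import Cfsg.Agent.Lib.Char.TwoCompDegrees.Common

/-!
# The commutators of the automorphism act irreducibly
-/

set_option autoImplicit false
set_option linter.unusedSectionVars false
set_option linter.style.haveILetI false

namespace Cfsg.Agent.Char.TwoComp

open Cfsg

universe u
variable {K : Type u} [Group K] [Fintype K] {α : MulAut K} {r : ℕ} {C : Subgroup K}

/-- The quotient by `C`. -/
abbrev UQ (C : Subgroup K) : Type u := Abelianization K ⧸ C.map Abelianization.of

/-- The quotient map. -/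
def mkU (C : Subgroup K) : K →* UQ C := (QuotientGroup.mk' _).comp Abelianization.of

theorem mkU_surjective (C : Subgroup K) : Function.Surjective (mkU C) := by
  intro z
  obtain ⟨a, rfl⟩ := QuotientGroup.mk_surjective z
  obtain ⟨x, rfl⟩ := QuotientGroup.mk_surjective a
  exact ⟨x, rfl⟩

/-- The preimage of the commutators of `α` in the quotient. -/
def comT (α : MulAut K) (C : Subgroup K) : Subgroup K :=
  C ⊔ Subgroup.closure (Set.range fun v => v * (α v)⁻¹)

/-- Its order modulo `C`. -/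
noncomputable def sNum (α : MulAut K) (C : Subgroup K) : ℕ := C.relIndex (comT α C)

/-- Restriction of an action to a stable subgroup. -/
def restrictAct {T : Type u} [Group T] {X : Type u} [Group X] (act : T →* MulAut X) (H : Subgroup X)
    (h : ∀ (t : T), ∀ x ∈ H, act t x ∈ H) : T →* MulAut H where
  toFun t :=
    { toFun := fun x => ⟨act t x, h t _ x.2⟩
      invFun := fun x => ⟨act t⁻¹ x, h _ _ x.2⟩
      left_inv := fun x => Subtype.ext (by
        show act t⁻¹ (act t x) = x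
        rw [map_inv, MulAut.inv_apply_self])
      right_inv := fun x => Subtype.ext (by
        show act t (act t⁻¹ x) = x
        rw [map_inv, MulAut.apply_inv_self])
      map_mul' := fun x y => Subtype.ext (map_mul (act t) _ _) }
  map_one' := MulEquiv.ext fun x => Subtype.ext (by
    show act 1 (x : X) = x
    rw [map_one, MulAut.one_apply])
  map_mul' a b := MulEquiv.ext fun x => Subtype.ext (by
    show act (a * b) (x : X) = act a (act b x)
    rw [map_mul, MulAut.mul_apply])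

namespace Common

variable [Group.IsSolvable K] (hC : Common α r C)
include hC

theorem ker_mkU : (mkU C).ker = C := by
  ext x
  rw [MonoidHom.mem_ker]
  show ((Abelianization.of x : Abelianization K) : UQ C) = 1 ↔ _
  rw [QuotientGroup.eq_one_iff]
  constructor
  · rintro ⟨c, hc, e⟩
    have := hC.le (of_eq_of_iff.1 e)
    have := C.mul_mem hc this
    rwa [mul_inv_cancel_left] at this
  · exact fun h => ⟨x, h, rfl⟩

theorem card_UQ : Nat.card (UQ C) = C.index := by
  conv_rhs => rw [← hC.ker_mkU, Subgroup.index_ker, MonoidHom.range_eq_top.2 (mkU_surjective C), Subgroup.card_top]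

theorem exists_sigma : ∃ σ : UQ C →* UQ C, ∀ x, σ (mkU C x) = mkU C (α x) := by
  refine ⟨QuotientGroup.map _ _ (Abelianization.map α.toMonoidHom) ?_, fun x => ?_⟩
  · rintro _ ⟨c, hc, rfl⟩
    rw [Subgroup.mem_comap, Abelianization.map_of]
    exact Subgroup.mem_map_of_mem _ ((hC.alpha_mem c).1 hc)
  · show QuotientGroup.map _ _ _ _ ((Abelianization.of x : Abelianization K) : UQ C) = _
    rw [QuotientGroup.map_mk, Abelianization.map_of]
    rfl

theorem sNum_eq {σ : UQ C →* UQ C} (hσ : ∀ x, σ (mkU C x) = mkU C (α x)) :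
    sNum α C = Nat.card (delta σ).range ∧ (comT α C).map (mkU C) = (delta σ).range := by
  have h2 : (comT α C).map (mkU C) = (delta σ).range := by
    rw [comT, Subgroup.map_sup, MonoidHom.map_closure, (Subgroup.map_eq_bot_iff C).2 hC.ker_mkU.ge, bot_sup_eq]
    refine le_antisymm ((Subgroup.closure_le _).2 ?_) ?_
    · rintro _ ⟨_, ⟨v, rfl⟩, rfl⟩
      exact ⟨mkU C v, by rw [delta_apply, hσ, map_mul, map_inv]⟩
    · rintro _ ⟨u, rfl⟩
      obtain ⟨v, rfl⟩ := mkU_surjective C u
      refine Subgroup.subset_closure ⟨_, ⟨v, rfl⟩, ?_⟩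
      rw [delta_apply, hσ, map_mul, map_inv]
  refine ⟨?_, h2⟩
  have h := Subgroup.relIndex_ker (comT α C) (mkU C)
  rw [hC.ker_mkU] at h
  rw [sNum, h, ← h2]

theorem exists_moved_diff : ∃ g, g * (α g)⁻¹ ∉ C := by
  obtain ⟨g, -, -, hg⟩ := hC.data.elem
  refine ⟨g, fun h => hC.not_mem_of_moved hg ?_⟩
  simpa using C.inv_mem h

theorem inner_mem : ∃ k ∈ C, α ^ r = MulAut.conj k := by
  obtain ⟨k, hk⟩ := hC.data.inner
  obtain ⟨j, hj⟩ := hC.data.rpow
  refine ⟨k, ?_, hk⟩
  have h1 : MulAut.conj (k ^ r ^ j) = 1 := by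
    rw [map_pow, ← hk, ← pow_mul, mul_comm, pow_mul, hj, one_pow]
  have h2 : k ^ r ^ j ∈ C := (hC.mem_C_iff _).2 fun x hx => by
    have := DFunLike.congr_fun h1 x
    rw [MulAut.conj_apply, MulAut.one_apply] at this
    rw [this, mul_inv_cancel]
    exact (secA K).M.one_mem
  have h3 : mkU C k ^ r ^ j = 1 := by rwa [← map_pow, ← MonoidHom.mem_ker, hC.ker_mkU]
  have hco : (Nat.card (UQ C)).Coprime (r ^ j) := by
    rw [hC.card_UQ]
    exact (((Nat.Prime.coprime_iff_not_dvd hC.data.prime).2 hC.cop).pow_left j).symm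
  rw [← hC.ker_mkU, MonoidHom.mem_ker]
  exact (powCoprime hco).injective (show mkU C k ^ r ^ j = 1 ^ r ^ j by rw [h3, one_pow])

theorem sigma_iter {σ : UQ C →* UQ C} (hσ : ∀ x, σ (mkU C x) = mkU C (α x)) (u : UQ C) : σ^[r] u = u := by
  obtain ⟨x, rfl⟩ := mkU_surjective C u
  obtain ⟨k, hk, he⟩ := hC.inner_mem
  have : ∀ n : ℕ, σ^[n] (mkU C x) = mkU C ((α ^ n) x) := by
    intro n
    induction n with
    | zero => rfl
    | succ n ih => rw [Function.iterate_succ_apply', ih, hσ, pow_succ', MulAut.mul_apply]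
  rw [this, he, MulAut.conj_apply, map_mul, map_mul, map_inv, mul_comm (mkU C k), mul_inv_cancel_right]

/-- The package used by the counting. -/
theorem exists_package (S : Sec K) (hS : S.L ≤ commutator K) (hcent : ∀ c ∈ C, S.Cent c)
    (hfree : ∀ y, y ∉ C → S.Free y) :
    ∃ (σ : UQ C →* UQ C) (act : UQ C →* MulAut S.X) (τ : MulAut S.X),
      (∀ x, σ (mkU C x) = mkU C (α x)) ∧ (∀ k, act (mkU C k) = S.act k) ∧
      (∀ u, u ≠ 1 → ∀ x, act u x = x → x = 1) ∧ (∀ u x, τ (act u x) = act (σ u) (τ x)) ∧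
      (∀ x, (⇑τ)^[r] x = x) ∧ (∀ x, ∃ u, τ x = act u x) := by
  obtain ⟨σ, hσ⟩ := hC.exists_sigma
  have hker : (mkU C).ker ≤ S.act.ker := fun c hc => MonoidHom.mem_ker.2
    (S.act_eq_one (hcent c (hC.ker_mkU ▸ hc)))
  let act : UQ C →* MulAut S.X := (mkU C).liftOfSurjective (mkU_surjective C) ⟨S.act, hker⟩
  have hact : ∀ k, act (mkU C k) = S.act k := fun k =>
    MonoidHom.liftOfRightInverse_comp_apply _ _ _ ⟨S.act, hker⟩ k
  let τ : MulAut S.X := S.autX α (hC.data.mem_iff S.hL hS) (hC.data.mem_iff S.hM (S.le.trans hS))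
  refine ⟨σ, act, τ, hσ, hact, fun u hu z hz => ?_, fun u z => ?_, fun z => ?_, fun z => ?_⟩
  · obtain ⟨k, rfl⟩ := mkU_surjective C u
    rw [hact] at hz
    exact S.eq_one_of_free (hfree k fun h => hu (by rwa [← MonoidHom.mem_ker, hC.ker_mkU])) z hz
  · obtain ⟨k, rfl⟩ := mkU_surjective C u
    obtain ⟨x, rfl⟩ := S.cls_surjective z
    rw [hact, hσ, hact, S.act_cls, Sec.autX_cls, Sec.autX_cls, S.act_cls]
    exact congrArg S.cls (Subtype.ext (by simp))
  · obtain ⟨x, rfl⟩ := S.cls_surjective z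
    obtain ⟨k, hk, he⟩ := hC.inner_mem
    have : ∀ n : ℕ, ∃ h : (α ^ n) (x : K) ∈ S.L, (⇑τ)^[n] (S.cls x) = S.cls ⟨_, h⟩ := by
      intro n
      induction n with
      | zero => exact ⟨x.2, rfl⟩
      | succ n ih =>
        obtain ⟨h, e⟩ := ih
        refine ⟨by rw [pow_succ', MulAut.mul_apply]; exact (hC.data.mem_iff S.hL hS _).1 h, ?_⟩
        rw [Function.iterate_succ_apply', e, Sec.autX_cls]
        exact congrArg S.cls (Subtype.ext (by simp [pow_succ']))
    obtain ⟨h, e⟩ := this r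
    rw [e]
    have e1 : (⟨_, h⟩ : S.L) = ⟨k * x * k⁻¹, S.hL.conj_mem _ x.2 k⟩ := Subtype.ext (by
      show (α ^ r) (x : K) = _
      rw [he, MulAut.conj_apply])
    rw [e1, ← S.act_cls, S.act_eq_one (hcent k hk), MulAut.one_apply]
  · obtain ⟨x, rfl⟩ := S.cls_surjective z
    obtain ⟨k, hk⟩ := hC.data.stable (hS x.2)
    refine ⟨mkU C k, ?_⟩
    rw [hact, S.act_cls, Sec.autX_cls]
    exact congrArg S.cls (Subtype.ext hk)

/-- No stable proper subgroup: the numerical form. -/
theorem count_bound (S : Sec K) (hS : S.L ≤ commutator K) (hcent : ∀ c ∈ C, S.Cent c)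
    (hfree : ∀ y, y ∉ C → S.Free y) {q a : ℕ} (hq : q.Prime) (hcard : Nat.card S.X = q ^ a) (ha : a ≠ 0) :
    (a = 1 → False) ∧ ∀ w, w ∣ Nat.card S.X → 1 < w → w < Nat.card S.X → ¬ sNum α C ∣ w - 1 := by
  obtain ⟨σ, act, τ, hσ, hact, hfree', hcomp, hτ, horb⟩ := hC.exists_package S hS hcent hfree
  have hr : r.Coprime (Nat.card (UQ C)) := by
    rw [hC.card_UQ]; exact (Nat.Prime.coprime_iff_not_dvd hC.data.prime).2 hC.cop
  obtain ⟨he, h2, hcc⟩ := count_fixed σ hr (hC.sigma_iter hσ) act τ hfree' hcomp hτ horb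
  obtain ⟨hs, hT⟩ := hC.sNum_eq hσ
  have hne : Nat.card (delta σ).range ≠ 1 := fun h1 => by
    obtain ⟨g, hg⟩ := hC.exists_moved_diff
    refine hg ?_
    rw [← hC.ker_mkU, MonoidHom.mem_ker]
    have h3 : mkU C (g * (α g)⁻¹) ∈ (delta σ).range := ⟨mkU C g, by rw [delta_apply, hσ, map_mul, map_inv]⟩
    rwa [Subgroup.card_eq_one.1 h1, Subgroup.mem_bot] at h3
  have h1X : 1 < Nat.card S.X := hcard ▸ Nat.one_lt_pow ha hq.one_lt
  have hc2 := h2 (Finite.one_lt_card_iff_nontrivial.1 h1X)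
  have hcd : Nat.card (fixedSub τ) ∣ Nat.card S.X := Subgroup.card_subgroup_dvd_card _
  refine ⟨fun ha1 => ?_, fun w hw hw1 hwn hdvd => ?_⟩
  · subst ha1
    rw [pow_one] at hcard
    rw [hcard] at hcd
    have hceq : Nat.card (fixedSub τ) = q := (hq.eq_one_or_self_of_dvd _ hcd).resolve_left (by omega)
    have := hcc hne
    rw [hceq, hcard] at this
    nlinarith [hq.two_le]
  · exact count_arith hq hcard hw hw1 hwn hcd hc2 (hcc hne) he (hs ▸ hdvd)

/-- The order of the commutators divides the number of nontrivial points of a fixed point free set. -/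
theorem sNum_dvd {X : Type u} [Group X] [Finite X] (act : comT α C →* MulAut X)
    (h : ∀ x, x ≠ 1 → ∀ t : comT α C, act t x = x → (t : K) ∈ C) : sNum α C ∣ Nat.card X - 1 := by
  have h1 := card_range_dvd act ((mkU C).comp (comT α C).subtype) fun x hx t ht => by
    rw [MonoidHom.comp_apply, ← MonoidHom.mem_ker, hC.ker_mkU]
    exact h x hx t ht
  obtain ⟨σ, hσ⟩ := hC.exists_sigma
  obtain ⟨hs, hT⟩ := hC.sNum_eq hσ
  rw [hs, ← hT]
  rwa [MonoidHom.range_comp, Subgroup.range_subtype] at h1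

theorem prime_two {S : Sec K} (hS : S.L ≤ commutator K) (hcent : ∀ c ∈ C, S.Cent c)
    (hfree : ∀ y, y ∉ C → S.Free y) (hne : ¬ S.L ≤ S.M) (h2 : r = 2) : 2 ∣ Nat.card S.X := by
  by_contra hodd
  obtain ⟨σ, act, τ, hσ, hact, hfree', hcomp, hτ, horb⟩ := hC.exists_package S hS hcent hfree
  have hU : (Nat.card (UQ C)).Coprime 2 := by
    rw [hC.card_UQ]
    exact ((Nat.Prime.coprime_iff_not_dvd Nat.prime_two).2 (h2 ▸ hC.cop)).symm
  have hX : (Nat.card S.X).Coprime 2 := ((Nat.Prime.coprime_iff_not_dvd Nat.prime_two).2 hodd).symm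
  have hinv : ∀ x : S.X, τ x = x⁻¹ → x = 1 := by
    intro x hx
    obtain ⟨u, hu⟩ := horb x
    rw [hx] at hu
    have h4 : act (u ^ 2) x = x := by rw [pow_two, map_mul, MulAut.mul_apply, ← hu, map_inv, ← hu, inv_inv]
    by_contra hx1
    by_cases hu2 : u ^ 2 = 1
    · have hu1 : u = 1 := (powCoprime hU).injective (show u ^ 2 = 1 ^ 2 by rw [hu2, one_pow])
      rw [hu1, map_one, MulAut.one_apply] at hu
      exact hx1 ((powCoprime hX).injective (show x ^ 2 = 1 ^ 2 by rw [one_pow, pow_two]; nth_rw 1 [← hu]; rw [inv_mul_cancel]))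
    · exact hx1 (hfree' _ hu2 x h4)
  have hfix : ∀ x : S.X, τ x = x := fun x => by
    have h5 := hinv (x⁻¹ * τ x) (by
      rw [map_mul, map_inv, mul_inv_rev, inv_inv]
      congr 1
      have := hτ x
      rw [h2] at this
      exact this)
    exact (inv_mul_eq_one.1 h5).symm
  obtain ⟨g, hg⟩ := hC.exists_moved_diff
  obtain ⟨x, hx⟩ := @exists_ne S.X (S.nontrivial_X hne) 1
  have h6 := hcomp (mkU C g) x
  rw [hfix, hfix, hσ] at h6
  refine hg ?_
  rw [← hC.ker_mkU, MonoidHom.mem_ker, map_mul, map_inv, mul_inv_eq_one]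
  by_contra hne'
  refine hx (hfree' ((mkU C g)⁻¹ * mkU C (α g)) (fun e => hne' (inv_mul_eq_one.1 e)) x ?_)
  rw [map_mul, MulAut.mul_apply, ← h6, map_inv, MulAut.inv_apply_self]

end Common

end Cfsg.Agent.Char.TwoComp
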