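import Cfsg.Agent.Lib.Char.TwoCompDegrees.Top
import Cfsg.Agent.Lib.Char.LinearExt
import Cfsg.Agent.Lib.Solv.FewDeg.Basic

/-!
# A central second layer is impossible
-/

set_option autoImplicit false
set_option linter.unusedSectionVars false
set_option linter.style.haveILetI false

open scoped commutatorElement

namespace Cfsg.Agent.Char.TwoComp

open Cfsg

universe u
variable {K : Type u} [Group K] [Fintype K] {α : MulAut K} {r : ℕ} {C : Subgroup K}

theorem moved_of_comT [Group.IsSolvable K] (hC : Common α r C) {t : K} (ht : t ∈ comT α C) (htC : t ∉ C) :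
    Moved α t := by
  intro e
  refine htC ?_
  obtain ⟨σ, hσ⟩ := hC.exists_sigma
  obtain ⟨-, hT⟩ := hC.sNum_eq hσ
  have hr : r.Coprime (Nat.card (UQ C)) := by
    rw [hC.card_UQ]; exact (Nat.Prime.coprime_iff_not_dvd hC.data.prime).2 hC.cop
  rw [← hC.ker_mkU, MonoidHom.mem_ker]
  refine eq_one_of_mem σ hr (hC.sigma_iter hσ) (hT ▸ Subgroup.mem_map_of_mem _ ht) ?_
  rw [hσ]
  show ((Abelianization.of (α t) : Abelianization K) : UQ C) = ((Abelianization.of t : Abelianization K) : UQ C)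
  rw [e]

/-- A linear character of the layer whose forms are degenerate gives a forbidden degree. -/
theorem Common.nondegenerate [Group.IsSolvable K] (hC : Common α r C) {q a : ℕ} (hq : q.Prime)
    (hA : Nat.card (secA K).X = q ^ a) (hqC : ¬ q ∣ C.index) (f : (secA K).M →* ℂˣ) (hf : f ≠ 1)
    (hcen : ∀ z ∈ (secA K).L, ∀ w : (secA K).M, f (MulAut.conjNormal z w) = f w)
    {z₀ : K} (hz₀ : z₀ ∈ (secA K).L)
    (hrad : ∀ x (hx : x ∈ (secA K).L), f ⟨z₀ * x * z₀⁻¹ * x⁻¹, (secA K).comm _ hz₀ _ hx⟩ = 1) :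
    z₀ ∈ (secA K).M := by
  classical
  by_contra hz₀M
  haveI : ((secA K).M).Normal := (secA K).hM
  have hR₂R : (secA K).M ≤ (secA K).L := (secA K).le
  have hcm : ∀ z ∈ (secA K).L, ∀ x ∈ (secA K).L, z * x * z⁻¹ * x⁻¹ ∈ (secA K).M := (secA K).comm
  -- the form
  let F : (secA K).L → (secA K).L → ℂˣ := fun z x => f ⟨(z : K) * x * (z : K)⁻¹ * (x : K)⁻¹, hcm _ z.2 _ x.2⟩
  have hF1 : ∀ x, F 1 x = 1 := fun x => by
    show f _ = 1
    convert map_one f using 2
    exact Subtype.ext (by simp)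
  have hFmul : ∀ z z' x, F (z * z') x = F z' x * F z x := fun z z' x => by
    show f _ = f _ * f _
    rw [← hcen z z.2 ⟨(z' : K) * x * (z' : K)⁻¹ * (x : K)⁻¹, hcm _ z'.2 _ x.2⟩, ← map_mul]
    congr 1
    exact Subtype.ext (by simp only [Subgroup.coe_mul, MulAut.conjNormal_apply]; group)
  let Z : Subgroup (secA K).L :=
    { carrier := {z | ∀ x, F z x = 1}
      one_mem' := hF1
      mul_mem' := fun {z z'} hz hz' x => by rw [hFmul, hz', hz, one_mul]
      inv_mem' := fun {z} hz x => by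
        have := hFmul z z⁻¹ x
        rwa [mul_inv_cancel, hF1, hz, mul_one, eq_comm] at this }
  have hR₂Z : ∀ w (hw : w ∈ (secA K).M), (⟨w, hR₂R hw⟩ : (secA K).L) ∈ Z := fun w hw x => by
    show f _ = 1
    have : (⟨w * (x : K) * w⁻¹ * (x : K)⁻¹, hcm _ (hR₂R hw) _ x.2⟩ : (secA K).M) =
        ⟨w, hw⟩ * (MulAut.conjNormal (x : K) (⟨w, hw⟩ : (secA K).M))⁻¹ :=
      Subtype.ext (by simp [MulAut.conjNormal_apply, mul_assoc])
    rw [this, map_mul, map_inv, hcen x x.2, mul_inv_cancel]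
  haveI hZn : Z.Normal := ⟨fun z hz g => by
    have hc : (g : K) * z * (g : K)⁻¹ * (z : K)⁻¹ ∈ (secA K).M := hcm _ g.2 _ z.2
    have e : g * z * g⁻¹ = ⟨_, hR₂R hc⟩ * z := Subtype.ext (by simp [mul_assoc])
    rw [e]
    exact Z.mul_mem (hR₂Z _ hc) hz⟩
  have hz₀Z : (⟨z₀, hz₀⟩ : (secA K).L) ∈ Z := fun x => hrad x x.2
  -- extensions
  let Q : Subgroup Z := ((secA K).M.subgroupOf (secA K).L).subgroupOf Z
  haveI : ((secA K).M.subgroupOf (secA K).L).Normal := Subgroup.Normal.comap inferInstance _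
  haveI : Q.Normal := Subgroup.Normal.comap inferInstance _
  let fQ : Q →* ℂˣ := f.comp
    { toFun := fun w => ⟨((w : Z) : (secA K).L), w.2⟩, map_one' := rfl, map_mul' := fun _ _ => rfl }
  obtain ⟨φ, hφ⟩ : ∃ φ : Z →* ℂˣ, ∀ w : Q, φ (w : Z) = fQ w := by
    refine exists_linear_extension_of_ker Q fQ fun w hw => ?_
    let P : Subgroup Z := fQ.ker.map Q.subtype
    have hle : commutator Z ≤ P := by
      rw [_root_.commutator, Subgroup.commutator_le]
      intro u _ v _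
      have hm : ((u * v * u⁻¹ * v⁻¹ : Z) : (secA K).L) ∈ (secA K).M.subgroupOf (secA K).L := hcm _ (u : (secA K).L).2 _ (v : (secA K).L).2
      exact ⟨⟨u * v * u⁻¹ * v⁻¹, hm⟩, MonoidHom.mem_ker.2 (u.2 (v : (secA K).L)), rfl⟩
    obtain ⟨w', hw', e⟩ := hle (of_eq_one_iff.1 hw)
    rw [Subtype.ext e] at hw'
    exact hw'
  -- invariance under (secA K).L
  have hφR : ∀ (ψ : Z →* ℂˣ), (∀ w : Q, ψ (w : Z) = fQ w) → ∀ (g : (secA K).L) (z : Z),
      ψ (MulAut.conjNormal g z) = ψ z := by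
    intro ψ hψ g z
    have hm : ((MulAut.conjNormal g z * z⁻¹ : Z) : (secA K).L) ∈ (secA K).M.subgroupOf (secA K).L := by
      show ((g * z * g⁻¹ * (z : (secA K).L)⁻¹ : (secA K).L) : K) ∈ (secA K).M
      exact hcm _ g.2 _ (z : (secA K).L).2
    have hm' : MulAut.conjNormal g z * z⁻¹ ∈ Q := hm
    have h1 := hψ ⟨_, hm'⟩
    have h2 : fQ ⟨_, hm'⟩ = (F z g)⁻¹ := by
      show f _ = (f _)⁻¹
      rw [← map_inv]
      congr 1
      exact Subtype.ext (by simp [MulAut.conjNormal_apply, mul_assoc])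
    rw [h2, z.2 g, inv_one] at h1
    change ψ (MulAut.conjNormal g z * z⁻¹) = 1 at h1
    rwa [map_mul, map_inv, mul_inv_eq_one] at h1
  haveI := Fintype.ofFinite (secA K).L
  haveI := Fintype.ofFinite Z
  -- some element outside `C` fixes every extension
  have hmem : ∀ (y : K) (z : (secA K).L), y * z * y⁻¹ ∈ (secA K).L := fun y z => (inferInstance : (secA K).L.Normal).conj_mem _ z.2 y
  have hfixy : ∀ (ψ : Z →* ℂˣ), (∀ w : Q, ψ (w : Z) = fQ w) → ∃ y : K, y ∉ C ∧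
      (∀ w : (secA K).M, f (MulAut.conjNormal y w) = f w) ∧
      ∀ (z z' : Z), y * ((z : (secA K).L) : K) * y⁻¹ = ((z' : (secA K).L) : K) → ψ z' = ψ z := by
    intro ψ hψ
    obtain ⟨θ, hθ⟩ := exists_constituent_over Z ⟨_, isIrrCharacter_linear ψ⟩
    obtain ⟨χ, hχ⟩ := exists_constituent_over (secA K).L θ
    -- the restriction of `θ` is a multiple of `ψ`
    have hres : ∀ z : Z, (θ : (secA K).L → ℂ) (z : (secA K).L) = (θ : (secA K).L → ℂ) 1 * (ψ z : ℂ) := by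
      have hc := clifford_restrict θ ⟨_, isIrrCharacter_linear ψ⟩ hθ
      have hO : cliffOrbit Z (⟨_, isIrrCharacter_linear ψ⟩ : IrrCharacter Z) =
          {⟨_, isIrrCharacter_linear ψ⟩} := by
        refine Finset.eq_singleton_iff_unique_mem.2 ⟨self_mem_cliffOrbit _, fun ψ' h' => ?_⟩
        obtain ⟨g, rfl⟩ := mem_cliffOrbit.1 h'
        exact Subtype.ext (funext fun z => congrArg Units.val (hφR ψ hψ g z))
      rw [hO, Finset.sum_singleton] at hc
      intro z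
      have e1 := congrFun hc z
      have e2 := congrFun hc 1
      simp only [Pi.smul_apply, OneMemClass.coe_one, map_one, Units.val_one, smul_eq_mul, mul_one] at e1 e2
      rw [e1, e2]
    have hθ0 : (θ : (secA K).L → ℂ) 1 ≠ 0 := irr_one_ne_zero θ.2
    -- its degree
    have hqθ : q ∣ deg (θ : (secA K).L → ℂ) := by
      obtain ⟨k, hk, hkd⟩ := Cfsg.Agent.Solv.FewDeg.deg_over Z hθ
      have h1 : deg ((⟨_, isIrrCharacter_linear ψ⟩ : IrrCharacter Z) : Z → ℂ) = 1 :=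
        Nat.cast_injective (R := ℂ) (by
          rw [← char_one_eq_deg (irr_isCharacter (isIrrCharacter_linear ψ))]; simp)
      rw [h1, mul_one] at hk
      have hZidx : Z.index ∣ q ^ a := hA ▸ (by
        rw [← Subgroup.index_eq_card]
        exact Subgroup.index_dvd_of_le fun z hz => hR₂Z _ hz)
      obtain ⟨i, -, hi⟩ := (Nat.dvd_prime_pow hq).1 (hkd.trans hZidx)
      have hi0 : i ≠ 0 := by
        rintro rfl
        rw [pow_zero] at hi
        obtain ⟨μ, hμ⟩ := exists_hom_of_degree_one (irr_isCharacter θ.2)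
          (by rw [char_one_eq_deg (irr_isCharacter θ.2), hk, hi, Nat.cast_one])
        refine hf (MonoidHom.ext fun w => ?_)
        have h2 := hres ⟨⟨w, hR₂R w.2⟩, hR₂Z w w.2⟩
        rw [char_one_eq_deg (irr_isCharacter θ.2), hk, hi, Nat.cast_one, one_mul,
          hψ ⟨⟨⟨w, hR₂R w.2⟩, hR₂Z w w.2⟩, w.2⟩, hμ] at h2
        have hker : ∀ x ∈ ⁅(secA K).L, (secA K).L⁆.subgroupOf (secA K).L, μ x = 1 := by
          intro x hx
          have : (x : K) ∈ (commutator ((secA K).L)).map (secA K).L.subtype := by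
            rw [_root_.commutator, Subgroup.map_commutator, ← MonoidHom.range_eq_map, Subgroup.range_subtype]
            exact hx
          obtain ⟨x', hx', e⟩ := this
          rw [← Subtype.ext e]
          exact Abelianization.commutator_subset_ker μ hx'
        have h3 := hker ⟨w, hR₂R w.2⟩ w.2
        have h4 : (fQ ⟨⟨⟨w, hR₂R w.2⟩, hR₂Z w w.2⟩, w.2⟩ : ℂ) = 1 := by
          rw [← h2]
          show (μ _ : ℂ) = 1
          rw [h3, Units.val_one]
        exact Units.ext h4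
      rw [hk, hi]
      exact dvd_pow_self q hi0
    obtain ⟨T, η, e, hRT, hη, hind, -, hT, hηres, -⟩ := exists_correspondent χ.2 (secA K).L θ hχ
    haveI := Fintype.ofFinite T
    have hdeg : deg (χ : K → ℂ) = T.index * (e * deg (θ : (secA K).L → ℂ)) := by
      apply Nat.cast_injective (R := ℂ)
      have h2 := hηres 1
      rw [map_one] at h2
      rw [← char_one_eq_deg (irr_isCharacter χ.2), hind, indFun_one, h2,
        char_one_eq_deg (irr_isCharacter θ.2), Nat.cast_mul, Nat.cast_mul]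
    have hTC : ¬ T ≤ C := fun hle => by
      obtain ⟨χC, hχC, hχC1⟩ := hC.degC
      have h1 := hC.data.anti χC χ hχC1 (by
        rw [hχC, hdeg]; exact (Subgroup.index_dvd_of_le hle).trans (dvd_mul_right _ _))
      refine hqC ?_
      rw [← hχC, ← h1, hdeg]
      exact hqθ.trans ((dvd_mul_left _ _).trans (dvd_mul_left _ _))
    obtain ⟨y, hy, hyC⟩ := SetLike.not_le_iff_exists.1 hTC
    have hinv : ∀ n : (secA K).L, (θ : (secA K).L → ℂ) (MulAut.conjNormal y n) = (θ : (secA K).L → ℂ) n := fun n =>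
      congrFun (congrArg Subtype.val ((hT y).1 hy)) n
    have hpt : ∀ (z z' : Z), y * ((z : (secA K).L) : K) * y⁻¹ = ((z' : (secA K).L) : K) → ψ z' = ψ z := by
      intro z z' e
      have h3 := hinv z
      rw [show MulAut.conjNormal y (z : (secA K).L) = (z' : (secA K).L) from Subtype.ext (by rw [MulAut.conjNormal_apply, e]),
        hres, hres] at h3
      exact Units.ext (mul_left_cancel₀ hθ0 h3)
    refine ⟨y, hyC, fun w => ?_, hpt⟩
    have h4 := hpt ⟨⟨w, hR₂R w.2⟩, hR₂Z w w.2⟩ ⟨⟨_, hR₂R (MulAut.conjNormal y w).2⟩, hR₂Z _ (MulAut.conjNormal y w).2⟩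
      (by simp [MulAut.conjNormal_apply])
    rwa [hψ ⟨⟨⟨w, hR₂R w.2⟩, hR₂Z w w.2⟩, w.2⟩,
      hψ ⟨⟨⟨_, hR₂R (MulAut.conjNormal y w).2⟩, hR₂Z _ (MulAut.conjNormal y w).2⟩, (MulAut.conjNormal y w).2⟩] at h4
  -- elements fixing `f` normalise `Z`
  have hnorm : ∀ y : K, (∀ w : (secA K).M, f (MulAut.conjNormal y w) = f w) → ∀ z : Z,
      (⟨_, hmem y z⟩ : (secA K).L) ∈ Z := by
    intro y hy z x
    have hx' : y⁻¹ * (x : K) * y ∈ (secA K).L := by simpa using hmem y⁻¹ x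
    have h1 := z.2 ⟨_, hx'⟩
    change f ⟨_, _⟩ = 1 at h1
    rw [← hy] at h1
    show f _ = 1
    rw [← h1]
    congr 1
    exact Subtype.ext (by simp only [MulAut.conjNormal_apply]; group)
  -- uniqueness
  have huniq : ∀ (y : K), y ∉ C → (∀ w : (secA K).M, f (MulAut.conjNormal y w) = f w) → ∀ ψ ψ' : Z →* ℂˣ,
      (∀ w : Q, ψ (w : Z) = fQ w) → (∀ w : Q, ψ' (w : Z) = fQ w) →
      (∀ (z z' : Z), y * ((z : (secA K).L) : K) * y⁻¹ = ((z' : (secA K).L) : K) → ψ z' = ψ z) →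
      (∀ (z z' : Z), y * ((z : (secA K).L) : K) * y⁻¹ = ((z' : (secA K).L) : K) → ψ' z' = ψ' z) → ψ = ψ' := by
    intro y hyC hyf ψ ψ' hψ hψ' h h'
    let B := Set.range fun z : Z => (secA K).cls (z : (secA K).L)
    let D : B → B := fun b => ⟨(secA K).act y b.1 * b.1⁻¹, by
      obtain ⟨z, hz⟩ := b.2
      refine ⟨(⟨_, hnorm y hyf z⟩ : Z) * z⁻¹, ?_⟩
      rw [← hz]
      rfl⟩
    have hinj : Function.Injective D := by
      rintro ⟨b, hb⟩ ⟨b', hb'⟩ e
      have e' : (secA K).act y b * b⁻¹ = (secA K).act y b' * b'⁻¹ := congrArg Subtype.val e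
      have h1 := (secA K).eq_one_of_free (hC.free hyC) (b * b'⁻¹) (by
        rw [map_mul, map_inv]
        rw [← div_eq_mul_inv, ← div_eq_mul_inv] at e'
        rw [← div_eq_mul_inv, ← div_eq_mul_inv]
        exact div_eq_div_iff_div_eq_div.1 e')
      exact Subtype.ext (mul_inv_eq_one.1 h1)
    refine MonoidHom.ext fun z => ?_
    obtain ⟨⟨b, z', rfl⟩, e⟩ := (Finite.injective_iff_surjective.1 hinj) ⟨_, z, rfl⟩
    have e' : (secA K).cls ((⟨_, hnorm y hyf z'⟩ : Z) * z'⁻¹ : Z) = (secA K).cls (z : (secA K).L) :=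
      congrArg Subtype.val e
    rw [(secA K).cls_eq] at e'
    let w : Q := ⟨((⟨_, hnorm y hyf z'⟩ : Z) * z'⁻¹)⁻¹ * z, e'⟩
    have hz : z = ((⟨_, hnorm y hyf z'⟩ : Z) * z'⁻¹) * (w : Z) := (mul_inv_cancel_left _ _).symm
    rw [hz, map_mul ψ, map_mul ψ', hψ w, hψ' w, map_mul ψ, map_mul ψ', map_inv, map_inv, h z' _ rfl, h' z' _ rfl,
      mul_inv_cancel, mul_inv_cancel]
  -- two extensions
  obtain ⟨g, hg⟩ := (secA K).exists_hom_ne_one (z := (secA K).cls ⟨z₀, hz₀⟩) (fun e => hz₀M ((secA K).cls_eq_one.1 e))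
  let μ : Z →* ℂˣ := (g.comp (secA K).clsHom).comp Z.subtype
  have hμQ : ∀ w : Q, μ (w : Z) = 1 := fun w => by
    show g ((secA K).cls _) = 1
    rw [(secA K).cls_eq_one.2 w.2, map_one]
  have hφ' : ∀ w : Q, (φ * μ) (w : Z) = fQ w := fun w => by rw [MonoidHom.mul_apply, hμQ, mul_one, hφ]
  obtain ⟨y, hyC, hyf, hyφ⟩ := hfixy φ hφ
  obtain ⟨y', hy'C, hy'f, hy'φ⟩ := hfixy (φ * μ) hφ'
  let c : Z →* Z :=
    { toFun := fun z => ⟨_, hnorm y' hy'f z⟩
      map_one' := Subtype.ext (Subtype.ext (by simp))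
      map_mul' := fun u v => Subtype.ext (Subtype.ext (by simp [mul_assoc])) }
  have hc : ∀ w : Q, (φ.comp c) (w : Z) = fQ w := fun w => by
    have hm : ((c (w : Z) : Z) : (secA K).L) ∈ (secA K).M.subgroupOf (secA K).L := ((secA K).hM).conj_mem _ w.2 y'
    rw [MonoidHom.comp_apply, hφ ⟨_, hm⟩]
    refine Eq.trans ?_ (hy'f ⟨(((w : Z) : (secA K).L) : K), w.2⟩)
    show f _ = f _
    congr 1
  have hcy : ∀ (z z' : Z), y * ((z : (secA K).L) : K) * y⁻¹ = ((z' : (secA K).L) : K) → (φ.comp c) z' = (φ.comp c) z := by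
    intro z z' e
    show φ (c z') = φ (c z)
    have hn : y' * y * y'⁻¹ * y⁻¹ ∈ (secA K).L := comm_mem y' y
    have h1 := hyφ (c z) ⟨_, hnorm y hyf (c z)⟩ rfl
    rw [← h1, ← hφR φ hφ ⟨_, hn⟩ ⟨_, hnorm y hyf (c z)⟩]
    congr 1
    refine Subtype.ext (Subtype.ext ?_)
    show y' * ((z' : (secA K).L) : K) * y'⁻¹ = y' * y * y'⁻¹ * y⁻¹ * (y * (y' * ((z : (secA K).L) : K) * y'⁻¹) * y⁻¹) *
      (y' * y * y'⁻¹ * y⁻¹)⁻¹
    rw [← e]
    group
  have h5 := huniq y hyC hyf φ (φ.comp c) hφ hc hyφ hcy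
  have h6 : φ = φ * μ := huniq y' hy'C hy'f φ (φ * μ) hφ hφ'
    (fun z z' e => by
      have h7 : z' = c z := Subtype.ext (Subtype.ext e.symm)
      rw [h7]
      exact (DFunLike.congr_fun h5 z).symm) hy'φ
  have h8 := DFunLike.congr_fun h6 ⟨⟨z₀, hz₀⟩, hz₀Z⟩
  rw [MonoidHom.mul_apply, left_eq_mul] at h8
  exact hg h8

/-- A central layer below the derived subgroup is impossible. -/
theorem Common.no_central [Group.IsSolvable K] (hC : Common α r C) (W : Sec K)
    (hWL : W.L = (secA K).M) (hne : ¬ W.L ≤ W.M)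
    (hcen : ∀ z ∈ commutator K, ∀ x ∈ W.L, z * x * z⁻¹ * x⁻¹ ∈ W.M) : False := by
  classical
  obtain ⟨q, a, hq, ha, hA, hqC, -⟩ := hC.exists_top_prime
  have hWR : W.L ≤ (secA K).L := hWL.le.trans (secA K).le
  obtain ⟨z₀, hz₀, hz₀M⟩ := SetLike.not_le_iff_exists.1 hC.not_le
  have hz₀' : z₀ ∈ (secA K).L := hz₀
  have hcm : ∀ z ∈ (secA K).L, ∀ x ∈ (secA K).L, z * x * z⁻¹ * x⁻¹ ∈ W.L := fun z hz x hx =>
    hWL.ge ((secA K).comm z hz x hx)
  let Φ₀ : (secA K).L →* W.X := MonoidHom.mk' (fun x => W.cls ⟨_, hcm _ hz₀' _ x.2⟩) fun x y => by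
    show _ = W.cls _ * W.cls _
    rw [← W.cls_mul, W.cls_eq]
    have hb := hcm _ hz₀' _ y.2
    have h1 := hcen _ x.2 _ (W.L.inv_mem hb)
    show (z₀ * ((x : K) * y) * z₀⁻¹ * ((x : K) * y)⁻¹)⁻¹ *
      (z₀ * (x : K) * z₀⁻¹ * (x : K)⁻¹ * (z₀ * (y : K) * z₀⁻¹ * (y : K)⁻¹)) ∈ W.M
    rw [inv_inv] at h1
    convert h1 using 1
    group
  have hker : (secA K).M.subgroupOf (secA K).L ≤ Φ₀.ker := fun x hx => by
    rw [MonoidHom.mem_ker]
    exact W.cls_eq_one.2 (hcen _ hz₀' _ (hWL.ge hx))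
  let Φ : (secA K).X →* W.X := QuotientGroup.lift _ Φ₀ hker
  have hsurj : Function.Surjective Φ := by
    rw [← MonoidHom.range_eq_top]
    by_contra hns
    haveI : Nontrivial (W.X ⧸ Φ.range) := QuotientGroup.nontrivial_iff.2 hns
    obtain ⟨z, hz⟩ := exists_ne (1 : W.X ⧸ Φ.range)
    haveI : NeZero (Monoid.exponent (W.X ⧸ Φ.range)) := ⟨Monoid.exponent_ne_zero_of_finite⟩
    obtain ⟨g, hg⟩ := CommGroup.exists_apply_ne_one_of_hasEnoughRootsOfUnity (W.X ⧸ Φ.range) ℂ hz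
    let ω : W.X →* ℂˣ := g.comp (QuotientGroup.mk' _)
    let f : (secA K).M →* ℂˣ := (ω.comp W.clsHom).comp (Subgroup.inclusion hWL.ge)
    refine hz₀M (hC.nondegenerate hq hA hqC f (fun e => hg ?_) ?_ hz₀' fun x hx => ?_)
    · obtain ⟨v, rfl⟩ := QuotientGroup.mk_surjective z
      obtain ⟨w, rfl⟩ := W.cls_surjective v
      exact DFunLike.congr_fun e ⟨w, hWL.le w.2⟩
    · intro z' hz' w
      show ω (W.cls _) = ω (W.cls _)
      congr 1
      rw [W.cls_eq]
      have h1 := hcen _ hz' _ (hWL.ge w.2)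
      have h2 := W.hM.conj_mem _ (W.M.inv_mem h1) (z' * (w : K) * z'⁻¹)⁻¹
      simpa [mul_assoc, MulAut.conjNormal_apply] using h2
    · exact (congrArg g ((QuotientGroup.eq_one_iff _).2
        (show W.cls ⟨_, hWL.ge ((secA K).comm _ hz₀' _ hx)⟩ ∈ Φ.range from ⟨(secA K).cls ⟨x, hx⟩, rfl⟩))).trans
          (map_one g)
  have hnt : Φ.ker ≠ ⊥ := fun e => by
    have h2 : (secA K).cls ⟨z₀, hz₀⟩ ∈ Φ.ker := by
      rw [MonoidHom.mem_ker]
      show W.cls ⟨_, _⟩ = 1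
      refine W.cls_eq_one.2 ?_
      simp
    rw [e, Subgroup.mem_bot] at h2
    exact hz₀M ((secA K).cls_eq_one.1 h2)
  have h1 := Φ.ker.card_mul_index
  rw [Subgroup.index_ker, MonoidHom.range_eq_top.2 hsurj, Subgroup.card_top] at h1
  have h2 := (Subgroup.one_lt_card_iff_ne_bot _).2 hnt
  haveI := W.nontrivial_X hne
  have h3 : 1 < Nat.card W.X := Finite.one_lt_card
  refine (hC.count_bound (secA K) le_rfl (fun c hc => hC.cent hc) (fun y hy => hC.free hy) hq hA ha).2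
    (Nat.card W.X) (Dvd.intro_left _ h1) h3 (by rw [← h1]; exact lt_mul_left (Nat.card_pos) h2) ?_
  refine hC.sNum_dvd (W.act.comp (comT α C).subtype) fun x hx t ht => ?_
  by_contra htC
  exact hx (W.eq_one_of_free (hC.data.sec_free (moved_of_comT hC t.2 htC) W hWR) x ht)

end Cfsg.Agent.Char.TwoComp
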