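import Cfsg.Agent.Lib.Char.TwoCompDegrees.Setup

/-!
# The common kernel and the counting argument
-/

set_option autoImplicit false
set_option linter.unusedSectionVars false
set_option linter.style.haveILetI false

open scoped commutatorElement

namespace Cfsg.Agent.Char.TwoComp

open Cfsg

universe u
variable {K : Type u} [Group K] [Fintype K] {α : MulAut K} {r : ℕ}

/-- The second term below the derived subgroup, as an abelian section. -/
def secA (K : Type u) [Group K] : Sec K where
  L := commutator K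
  M := ⁅commutator K, commutator K⁆
  hL := inferInstance
  hM := inferInstance
  le := Subgroup.commutator_le_self _
  comm a ha b hb := Subgroup.commutator_mem_commutator ha hb

/-- An abelian group is separated by its linear characters. -/
theorem Sec.exists_hom_ne_one (S : Sec K) {z : S.X} (hz : z ≠ 1) : ∃ f : S.X →* ℂˣ, f z ≠ 1 := by
  haveI : NeZero (Monoid.exponent S.X) := ⟨Monoid.exponent_ne_zero_of_finite⟩
  exact CommGroup.exists_apply_ne_one_of_hasEnoughRootsOfUnity S.X ℂ hz

/-- The properties of the common stabiliser. -/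
structure Common (α : MulAut K) (r : ℕ) (C : Subgroup K) : Prop where
  data : Data K α r
  le : commutator K ≤ C
  stab_eq : ∀ l : commutator K →* ℂˣ, l ≠ 1 → stab l = C
  cop : ¬ r ∣ C.index
  degC : ∃ χ : IrrCharacter K, deg (χ : K → ℂ) = C.index ∧ deg (χ : K → ℂ) ≠ 1

namespace Data

variable (hd : Data K α r)
include hd

theorem exists_over {l : commutator K →* ℂˣ} (hl : l ≠ 1) :
    ∃ χ : IrrCharacter K, deg (χ : K → ℂ) = (stab l).index ∧ deg (χ : K → ℂ) ≠ 1 := by
  haveI := Fintype.ofFinite (commutator K)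
  obtain ⟨χ, hχ⟩ := exists_constituent_over (commutator K) ⟨_, isIrrCharacter_linear l⟩
  exact ⟨χ, hd.deg_over_linear l χ hχ, deg_ne_one_over _ le_rfl hl χ hχ⟩

theorem stab_eq_of_le {l m : commutator K →* ℂˣ} (hl : l ≠ 1) (hm : m ≠ 1) (h : stab l ≤ stab m) :
    stab l = stab m := by
  obtain ⟨χ, hχ, hχ1⟩ := hd.exists_over hm
  obtain ⟨ψ, hψ, -⟩ := hd.exists_over hl
  have he := hd.anti χ ψ hχ1 (by rw [hχ, hψ]; exact Subgroup.index_dvd_of_le h)
  rw [hχ, hψ] at he
  refine Subgroup.eq_of_le_of_card_ge h ?_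
  have h1 := (stab l).card_mul_index
  have h2 := (stab m).card_mul_index
  rw [he, ← h2] at h1
  exact (Nat.eq_of_mul_eq_mul_right (Nat.pos_of_ne_zero Subgroup.index_ne_zero_of_finite) h1).ge

theorem stab_const {l m : commutator K →* ℂˣ} (hl : l ≠ 1) (hm : m ≠ 1) : stab l = stab m := by
  classical
  let c : K → (commutator K →* ℂˣ) → (commutator K →* ℂˣ) := fun y f =>
    f.comp (MulAut.conjNormal y : MulAut (commutator K)).toMonoidHom
  by_cases hall : ∀ y ∈ stab (l * m), y ∈ stab l
  · by_cases hlm : l * m = 1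
    · ext y
      have : ∀ n, m n = (l n)⁻¹ := fun n => eq_inv_of_mul_eq_one_right (DFunLike.congr_fun hlm n)
      exact ⟨fun h n => by rw [this, this, h n], fun h n => by
        have := h n; rwa [‹∀ n, m n = (l n)⁻¹›, ‹∀ n, m n = (l n)⁻¹›, inv_inj] at this⟩
    · have h1 : stab (l * m) ≤ stab l := hall
      have h2 : stab (l * m) ≤ stab m := fun y hy n => by
        have e := hy n
        rw [MonoidHom.mul_apply, MonoidHom.mul_apply, hall y hy n] at e
        exact mul_left_cancel e
      rw [← hd.stab_eq_of_le hlm hl h1, hd.stab_eq_of_le hlm hm h2]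
  · push Not at hall
    obtain ⟨y, hy, hyl⟩ := hall
    let η : commutator K →* ℂˣ := c y l * l⁻¹
    have hη : η ≠ 1 := fun e => hyl fun n => mul_inv_eq_one.1 (DFunLike.congr_fun e n)
    have hηm : ∀ n, η n = m n * (m (MulAut.conjNormal y n))⁻¹ := fun n => by
      show l (MulAut.conjNormal y n) * (l n)⁻¹ = _
      have e := hy n
      rw [MonoidHom.mul_apply, MonoidHom.mul_apply] at e
      rw [← div_eq_mul_inv, ← div_eq_mul_inv, div_eq_div_iff_mul_eq_mul, e, mul_comm]
    have hswap : ∀ (f : commutator K →* ℂˣ) (t : K), t ∈ stab f → ∀ n,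
        f (MulAut.conjNormal y (MulAut.conjNormal t n)) = f (MulAut.conjNormal y n) := fun f t ht n => by
      rw [← MulAut.mul_apply, ← map_mul, show y * t = y * t * y⁻¹ * y by group, map_mul, MulAut.mul_apply]
      exact (stab_normal f).conj_mem t ht y _
    have h1 : stab l ≤ stab η := fun t ht n => by
      show l (MulAut.conjNormal y _) * (l _)⁻¹ = l (MulAut.conjNormal y n) * (l n)⁻¹
      rw [hswap l t ht n, ht n]
    have h2 : stab m ≤ stab η := fun t ht n => by
      rw [hηm, hηm, ht n, hswap m t ht n]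
    rw [hd.stab_eq_of_le hl hη h1, hd.stab_eq_of_le hm hη h2]

theorem derived_lt [Group.IsSolvable K] : ⁅commutator K, commutator K⁆ < commutator K := by
  refine Group.IsSolvable.commutator_lt_of_ne_bot fun e => ?_
  obtain ⟨χ, hχ⟩ := hd.nonab
  refine hχ (deg_eq_one_of_trivial χ fun n hn => ?_)
  rw [e, Subgroup.mem_bot] at hn
  rw [hn]

theorem exists_nontrivial_hom [Group.IsSolvable K] : ∃ l : commutator K →* ℂˣ, l ≠ 1 := by
  obtain ⟨x, hx, hxn⟩ := SetLike.exists_of_lt hd.derived_lt
  obtain ⟨f, hf⟩ := (secA K).exists_hom_ne_one (z := (secA K).cls ⟨x, hx⟩) (fun e => hxn ((secA K).cls_eq_one.1 e))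
  exact ⟨f.comp (secA K).clsHom, fun e => hf (DFunLike.congr_fun e ⟨x, hx⟩)⟩

theorem exists_common [Group.IsSolvable K] : ∃ C, Common α r C := by
  obtain ⟨l, hl⟩ := hd.exists_nontrivial_hom
  obtain ⟨χ, hχ, hχ1⟩ := hd.exists_over hl
  exact ⟨stab l, hd, commutator_le_stab l, fun m hm => hd.stab_const hm hl, hχ ▸ hd.cop χ hχ1, χ, hχ, hχ1⟩

end Data

namespace Common

variable {C : Subgroup K} (hC : Common α r C)
include hC

theorem normal : C.Normal :=
  ⟨fun x hx g => by
    rw [show g * x * g⁻¹ = g * x * g⁻¹ * x⁻¹ * x by group]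
    exact C.mul_mem (hC.le (comm_mem g x)) hx⟩

theorem cent {c : K} (hc : c ∈ C) : (secA K).Cent c := by
  intro x hx
  by_contra hne
  let n : commutator K := ⟨x, hx⟩
  obtain ⟨f, hf⟩ := (secA K).exists_hom_ne_one
    (z := (secA K).cls (MulAut.conjNormal c n * n⁻¹)) (fun e => hne ((secA K).cls_eq_one.1 e))
  let l : commutator K →* ℂˣ := f.comp (secA K).clsHom
  refine hf ?_
  show l (MulAut.conjNormal c n * n⁻¹) = 1
  by_cases hl : l = 1
  · rw [hl]; rfl
  · have := (hC.stab_eq l hl).symm ▸ hc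
    rw [map_mul, this n, map_inv, mul_inv_cancel]

theorem free {y : K} (hy : y ∉ C) : (secA K).Free y := by
  let X := (secA K).X
  let D : X →* X :=
    { toFun := fun a => (secA K).act y a * a⁻¹
      map_one' := by rw [map_one, inv_one, mul_one]
      map_mul' := fun a b => by rw [map_mul, mul_inv, mul_mul_mul_comm] }
  have hsurj : Function.Surjective D := by
    by_contra hns
    rw [← MonoidHom.range_eq_top] at hns
    haveI : Nontrivial (X ⧸ D.range) := QuotientGroup.nontrivial_iff.2 hns
    obtain ⟨z, hz⟩ := exists_ne (1 : X ⧸ D.range)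
    haveI : NeZero (Monoid.exponent (X ⧸ D.range)) := ⟨Monoid.exponent_ne_zero_of_finite⟩
    obtain ⟨f, hf⟩ := CommGroup.exists_apply_ne_one_of_hasEnoughRootsOfUnity (X ⧸ D.range) ℂ hz
    let l : commutator K →* ℂˣ := (f.comp (QuotientGroup.mk' _)).comp (secA K).clsHom
    have hl : l ≠ 1 := fun e => hf (by
      obtain ⟨a, rfl⟩ := QuotientGroup.mk_surjective z
      obtain ⟨n, rfl⟩ := QuotientGroup.mk_surjective a
      exact DFunLike.congr_fun e n)
    refine hy (hC.stab_eq l hl ▸ fun n => ?_)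
    show f (QuotientGroup.mk ((secA K).cls (MulAut.conjNormal y n))) = f (QuotientGroup.mk ((secA K).cls n))
    congr 1
    rw [QuotientGroup.eq]
    refine ⟨((secA K).cls n)⁻¹, ?_⟩
    show (secA K).act y ((secA K).cls n)⁻¹ * (((secA K).cls n)⁻¹)⁻¹ = _
    rw [map_inv, inv_inv]
    rfl
  intro x hx hxM
  have h1 : D ((secA K).cls ⟨x, hx⟩) = D 1 := by
    rw [map_one]
    show (secA K).act y _ * _⁻¹ = 1
    rw [mul_inv_eq_one, Sec.act_cls_eq_iff]
    exact hxM
  exact (secA K).cls_eq_one.1 ((Finite.injective_iff_surjective.2 hsurj) h1)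

theorem not_le [Group.IsSolvable K] : ¬ (secA K).L ≤ (secA K).M := hC.data.derived_lt.not_ge

theorem not_mem_of_moved [Group.IsSolvable K] {v : K} (hv : Moved α v) : v ∉ C := fun h =>
  (secA K).not_cent_of_free (hC.data.sec_free hv _ le_rfl) hC.not_le (hC.cent h)

theorem mem_C_iff [Group.IsSolvable K] (y : K) : y ∈ C ↔ (secA K).Cent y :=
  ⟨hC.cent, fun h => by_contra fun hy => (secA K).not_cent_of_free (hC.free hy) hC.not_le h⟩

theorem alpha_mem [Group.IsSolvable K] (y : K) : y ∈ C ↔ α y ∈ C := by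
  rw [hC.mem_C_iff, hC.mem_C_iff]
  have hL := hC.data.mem_iff (secA K).hL le_rfl
  have hM := hC.data.mem_iff (secA K).hM (secA K).le
  constructor
  · intro h x hx
    obtain ⟨x, rfl⟩ := α.surjective x
    have := (hM _).1 (h x ((hL x).2 hx))
    rwa [map_mul, map_mul, map_mul, map_inv, map_inv] at this
  · intro h x hx
    have h1 := h _ ((hL x).1 hx)
    rw [← map_inv, ← map_inv, ← map_mul, ← map_mul, ← map_mul] at h1
    exact (hM _).2 h1

end Common

end Cfsg.Agent.Char.TwoComp
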