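import Mathlib

/-!
# Semiregular abelian groups normalised by an automorphism of prime order with stable orbits
-/

set_option autoImplicit false
set_option linter.unusedSectionVars false

namespace Cfsg.Agent.Char.TwoComp

universe u v

/-- No common divisor of `q^a - 1` and `q^b - 1`, `b < a`, can be that big. -/
theorem count_arith {q a n w c s : ℕ} (hq : q.Prime) (hn : n = q ^ a) (hw : w ∣ n) (hw1 : 1 < w)
    (hwn : w < n) (hc : c ∣ n) (hc2 : 2 ≤ c) (hcc : c * c ≤ n) (he : n - 1 = s * (c - 1))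
    (hsw : s ∣ w - 1) : False := by
  subst hn
  obtain ⟨b, hb, rfl⟩ := (Nat.dvd_prime_pow hq).1 hw
  obtain ⟨e, -, rfl⟩ := (Nat.dvd_prime_pow hq).1 hc
  have hba : b < a := (Nat.pow_lt_pow_iff_right hq.one_lt).1 hwn
  have hb0 : b ≠ 0 := fun h => by simp [h] at hw1
  have hee : e + e ≤ a := (Nat.pow_le_pow_iff_right hq.one_lt).1 (by rwa [pow_add])
  have hsn : s ∣ q ^ a - 1 := Dvd.intro _ he.symm
  have hg : s ∣ q ^ Nat.gcd a b - 1 := by
    rw [← Nat.pow_sub_one_gcd_pow_sub_one]
    exact Nat.dvd_gcd hsn hsw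
  set g := Nat.gcd a b with hgdef
  have hg0 : 0 < g := Nat.gcd_pos_of_pos_right a (Nat.pos_of_ne_zero hb0)
  have hga : g + g ≤ a := by
    obtain ⟨m, hm⟩ : g ∣ a := Nat.gcd_dvd_left a b
    have hgb : g ≤ b := Nat.le_of_dvd (Nat.pos_of_ne_zero hb0) (Nat.gcd_dvd_right a b)
    rcases m with _ | _ | m
    · omega
    · omega
    · rw [hm]; nlinarith
  have h1 : 2 ≤ q ^ g := le_trans hq.two_le (Nat.le_self_pow hg0.ne' q)
  have hsg : s ≤ q ^ g - 1 := Nat.le_of_dvd (by omega) hg
  have h2 : q ^ g * q ^ e ≤ q ^ a := by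
    rw [← pow_add]; exact Nat.pow_le_pow_right hq.pos (by omega)
  have h3 : s * (q ^ e - 1) ≤ (q ^ g - 1) * (q ^ e - 1) := Nat.mul_le_mul_right _ hsg
  obtain ⟨x, hx⟩ : ∃ x, q ^ g = x + 1 := ⟨q ^ g - 1, by omega⟩
  obtain ⟨y, hy⟩ : ∃ y, q ^ e = y + 1 := ⟨q ^ e - 1, by omega⟩
  rw [hx, hy] at h2 h3
  rw [hy] at he
  simp only [Nat.add_sub_cancel] at he h3
  have h4 : (x + 1) * (y + 1) = x * y + x + y + 1 := by ring
  omega

/-- The stabilisers of nontrivial points lying in the kernel, the image divides the number of them. -/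
theorem card_range_dvd {T : Type u} {U : Type v} [Group T] [Finite T] [Group U] {X : Type u} [Group X] [Finite X]
    (act : T →* MulAut X) (φ : T →* U) (h : ∀ x, x ≠ 1 → ∀ t, act t x = x → φ t = 1) :
    Nat.card φ.range ∣ Nat.card X - 1 := by
  classical
  letI : MulAction T X := MulAction.compHom X act
  haveI := Fintype.ofFinite X
  haveI := Fintype.ofFinite (MulAction.orbitRel.Quotient T X)
  have hX : Nat.card X = ∑ ω : MulAction.orbitRel.Quotient T X, Nat.card ω.orbit := by
    rw [Nat.card_congr (MulAction.selfEquivSigmaOrbits' T X), Nat.card_sigma]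
  have hone : MulAction.orbit T (1 : X) = {1} := by
    ext y
    simp only [MulAction.mem_orbit_iff, Set.mem_singleton_iff]
    refine ⟨?_, fun e => ⟨1, by rw [e, one_smul]⟩⟩
    rintro ⟨t, rfl⟩
    exact map_one (act t)
  set ω₀ : MulAction.orbitRel.Quotient T X := Quotient.mk'' 1 with hω₀
  rw [hX, ← Finset.add_sum_erase _ _ (Finset.mem_univ ω₀)]
  have e0 : Nat.card ω₀.orbit = 1 := by
    rw [hω₀, MulAction.orbitRel.Quotient.orbit_mk, hone]
    simp
  rw [e0, Nat.add_sub_cancel_left]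
  refine Finset.dvd_sum fun ω hω => ?_
  induction ω using Quotient.inductionOn' with | h x => ?_
  have hx : x ≠ 1 := fun e => (Finset.mem_erase.1 hω).1 (by rw [e])
  rw [MulAction.orbitRel.Quotient.orbit_mk, Nat.card_coe_set_eq, ← MulAction.index_stabilizer,
    ← Subgroup.index_ker φ]
  exact Subgroup.index_dvd_of_le fun t ht => MonoidHom.mem_ker.2 (h x hx t ht)

variable {U : Type v} {X : Type u} [CommGroup U] [Finite U]

section Aut
variable (σ : U →* U)

/-- The map `u ↦ u / σ u`. -/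
def delta : U →* U := MonoidHom.id U * σ⁻¹

theorem delta_apply (u : U) : delta σ u = u * (σ u)⁻¹ := rfl

/-- The fixed points of `σ`. -/
theorem mem_ker_delta {u : U} : u ∈ (delta σ).ker ↔ σ u = u := by
  rw [MonoidHom.mem_ker, delta_apply, mul_inv_eq_one, eq_comm]

variable {r : ℕ}

/-- The norm. -/
def normU (r : ℕ) (u : U) : U := ∏ i ∈ Finset.range r, σ^[i] u

theorem normU_delta (hσ : ∀ u, σ^[r] u = u) (v : U) : normU σ r (delta σ v) = 1 := by
  have : ∀ n, ∏ i ∈ Finset.range n, σ^[i] (delta σ v) = v * (σ^[n] v)⁻¹ := by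
    intro n
    induction n with
    | zero => simp
    | succ n ih =>
      rw [Finset.prod_range_succ, ih, delta_apply, iterate_map_mul σ, iterate_map_inv σ,
        ← Function.iterate_succ_apply, mul_assoc, inv_mul_cancel_left]
  rw [normU, this, hσ, mul_inv_cancel]

theorem normU_fixed {u : U} (hu : σ u = u) : normU σ r u = u ^ r := by
  rw [normU, Finset.prod_congr rfl fun i _ => Function.iterate_fixed hu i]
  simp

variable (hr : r.Coprime (Nat.card U)) (hσ : ∀ u, σ^[r] u = u)
include hr hσ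

theorem eq_one_of_mem {u : U} (h1 : u ∈ (delta σ).range) (h2 : σ u = u) : u = 1 := by
  obtain ⟨v, rfl⟩ := h1
  exact (powCoprime hr.symm).injective (show _ ^ r = (1 : U) ^ r by
    rw [one_pow, ← normU_fixed σ h2, normU_delta σ hσ])

theorem exists_decomp (u : U) : ∃ s ∈ (delta σ).range, ∃ z, σ z = z ∧ u = s * z := by
  classical
  let f : (delta σ).range × (delta σ).ker → U := fun p => (p.1 : U) * p.2
  have hinj : Function.Injective f := by
    rintro ⟨a, b⟩ ⟨a', b'⟩ (e : (a : U) * b = a' * b')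
    have e1 : (a : U) * (a' : U)⁻¹ = b' * (b : U)⁻¹ := by
      rw [← div_eq_mul_inv, ← div_eq_mul_inv, div_eq_div_iff_mul_eq_mul, mul_comm (b' : U), e]
    have h1 := eq_one_of_mem σ hr hσ ((delta σ).range.mul_mem a.2 ((delta σ).range.inv_mem a'.2))
      (by rw [e1]; exact (mem_ker_delta σ).1 ((delta σ).ker.mul_mem b'.2 ((delta σ).ker.inv_mem b.2)))
    have ha : a = a' := Subtype.ext (mul_inv_eq_one.1 h1)
    subst ha
    exact Prod.ext rfl (Subtype.ext (mul_left_cancel e))
  have hc : Nat.card ((delta σ).range × (delta σ).ker) = Nat.card U := by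
    rw [Nat.card_prod, ← Subgroup.index_ker, Subgroup.index_mul_card]
  obtain ⟨⟨s, z⟩, e⟩ := ((Nat.bijective_iff_injective_and_card f).2 ⟨hinj, hc⟩).2 u
  exact ⟨s, s.2, z, (mem_ker_delta σ).1 z.2, e.symm⟩

variable [CommGroup X] [Finite X] (act : U →* MulAut X) (τ : MulAut X)
variable (hfree : ∀ u : U, u ≠ 1 → ∀ x : X, act u x = x → x = 1)
variable (hcompat : ∀ u x, τ (act u x) = act (σ u) (τ x))
variable (hτ : ∀ x, (⇑τ)^[r] x = x)
variable (horb : ∀ x, ∃ u, τ x = act u x)
include hfree hcompat hτ horb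

omit hr hσ in
theorem act_eq {u v : U} {x : X} (hx : x ≠ 1) (h : act u x = act v x) : u = v := by
  by_contra hne
  refine hx (hfree (v⁻¹ * u) (fun e => hne (inv_mul_eq_one.1 e).symm) x ?_)
  rw [map_mul, MulAut.mul_apply, h, map_inv, MulAut.inv_apply_self]

/-- Every orbit meets the fixed points. -/
theorem exists_fixed {x : X} (hx : x ≠ 1) : ∃ v ∈ (delta σ).range, τ (act v x) = act v x := by
  obtain ⟨u, hu⟩ := horb x
  have hit : ∀ n, (⇑τ)^[n] x = act (∏ i ∈ Finset.range n, σ^[i] u) x := by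
    intro n
    induction n with
    | zero => simp
    | succ n ih =>
      rw [Function.iterate_succ_apply', ih, hcompat, hu, ← MulAut.mul_apply, ← map_mul, map_prod,
        Finset.prod_range_succ']
      congr 2
      simp only [Function.iterate_zero, id_eq, ← Function.iterate_succ_apply' σ]
  have hN : normU σ r u = 1 := act_eq σ act τ hfree hcompat hτ horb hx (by
    rw [normU, ← hit, hτ, map_one, MulAut.one_apply])
  obtain ⟨s, ⟨v, rfl⟩, z, hz, rfl⟩ := exists_decomp σ hr hσ u
  have hz1 : z = 1 := (powCoprime hr.symm).injective (show z ^ r = (1 : U) ^ r by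
    rw [one_pow, ← normU_fixed σ hz, ← hN]
    unfold normU
    rw [Finset.prod_congr rfl fun i _ => iterate_map_mul σ i (delta σ v) z, Finset.prod_mul_distrib]
    rw [show ∏ i ∈ Finset.range r, σ^[i] (delta σ v) = 1 from normU_delta σ hσ v, one_mul])
  obtain ⟨s', hs', z', hz', rfl⟩ := exists_decomp σ hr hσ v
  refine ⟨s', hs', ?_⟩
  rw [hcompat, hu, ← MulAut.mul_apply, ← map_mul, hz1, mul_one, delta_apply, map_mul σ s' z', hz']
  congr 2
  rw [mul_inv_rev, mul_comm (z'⁻¹) _]
  rw [show σ s' * (s' * z' * ((σ s')⁻¹ * z'⁻¹)) = (σ s' * (σ s')⁻¹) * (z' * z'⁻¹) * s' by ac_rfl,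
    mul_inv_cancel, mul_inv_cancel, one_mul, one_mul]

omit hr hσ hτ horb in
theorem fixed_act {u : U} {x : X} (hu : σ u = u) (hx : τ x = x) : τ (act u x) = act u x := by
  rw [hcompat, hu, hx]

/-- The subgroup of fixed points. -/
def fixedSub : Subgroup X where
  carrier := {x | τ x = x}
  one_mem' := map_one τ
  mul_mem' := fun {a b} ha hb => show τ (a * b) = a * b by rw [map_mul, ha, hb]
  inv_mem' := fun {a} ha => show τ a⁻¹ = a⁻¹ by rw [map_inv, ha]

/-- The count. -/
theorem count_fixed :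
    Nat.card X - 1 = Nat.card (delta σ).range * (Nat.card (fixedSub τ) - 1) ∧
      (Nontrivial X → 2 ≤ Nat.card (fixedSub τ)) ∧
      (Nat.card (delta σ).range ≠ 1 → Nat.card (fixedSub τ) * Nat.card (fixedSub τ) ≤ Nat.card X) := by
  classical
  set S := (delta σ).range with hSdef
  set F := fixedSub τ with hFdef
  have hinjkey : ∀ s ∈ S, ∀ z ∈ F, act s z ∈ F → s = 1 ∨ z = 1 := by
    intro s hs z hz hsz
    by_cases hz1 : z = 1
    · exact Or.inr hz1
    left
    refine eq_one_of_mem σ hr hσ hs (act_eq σ act τ hfree hcompat hτ horb hz1 ?_)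
    rw [← (show τ (act s z) = act s z from hsz), hcompat, (show τ z = z from hz)]
  let f : S × {z : F // z ≠ 1} → {x : X // x ≠ 1} := fun p => ⟨act (p.1 : U) ((p.2 : F) : X), fun e => p.2.2
    (Subtype.ext ((act (p.1 : U)).map_eq_one_iff.1 e))⟩
  have hf : Function.Bijective f := by
    constructor
    · rintro ⟨s, z⟩ ⟨s', z'⟩ e
      have e' : act (s : U) (z.1 : X) = act (s' : U) (z'.1 : X) := congrArg Subtype.val e
      have e2 : act ((s' : U)⁻¹ * s) (z.1 : X) = z'.1 := by
        rw [map_mul, MulAut.mul_apply, e', map_inv, MulAut.inv_apply_self]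
      rcases hinjkey _ (S.mul_mem (S.inv_mem s'.2) s.2) _ z.1.2 (e2 ▸ z'.1.2) with h | h
      · have hs : s = s' := Subtype.ext (inv_mul_eq_one.1 h).symm
        subst hs
        exact Prod.ext rfl (Subtype.ext (Subtype.ext ((act (s : U)).injective e')))
      · exact absurd (Subtype.ext h) z.2
    · rintro ⟨x, hx⟩
      obtain ⟨v, hv, hv'⟩ := exists_fixed σ hr hσ act τ hfree hcompat hτ horb hx
      refine ⟨⟨⟨v⁻¹, S.inv_mem hv⟩, ⟨⟨act v x, hv'⟩, fun e => hx ((act v).map_eq_one_iff.1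
        (congrArg Subtype.val e))⟩⟩, Subtype.ext ?_⟩
      show act v⁻¹ (act v x) = x
      rw [map_inv, MulAut.inv_apply_self]
  have hcx : Nat.card {x : X // x ≠ 1} = Nat.card X - 1 := by
    haveI := Fintype.ofFinite X
    simp [Nat.card_eq_fintype_card, Fintype.card_subtype_compl]
  have hcz : Nat.card {z : F // z ≠ 1} = Nat.card F - 1 := by
    haveI := Fintype.ofFinite F
    simp [Nat.card_eq_fintype_card, Fintype.card_subtype_compl]
  refine ⟨?_, fun _ => ?_, fun hS => ?_⟩
  · rw [← hcx, ← hcz, ← Nat.card_prod, Nat.card_congr (Equiv.ofBijective f hf)]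
  · obtain ⟨x, hx⟩ := exists_ne (1 : X)
    obtain ⟨v, -, hv⟩ := exists_fixed σ hr hσ act τ hfree hcompat hτ horb hx
    have : F ≠ ⊥ := fun e => hx ((act v).map_eq_one_iff.1
      (Subgroup.mem_bot.1 (e ▸ (show act v x ∈ F from hv))))
    exact (Subgroup.one_lt_card_iff_ne_bot F).2 this
  · obtain ⟨s, hs, hs1⟩ : ∃ s ∈ S, s ≠ 1 := by
      by_contra hno
      push Not at hno
      exact hS (by rw [(Subgroup.eq_bot_iff_forall S).2 hno, Subgroup.card_bot])
    rw [← Nat.card_prod]
    refine Nat.card_le_card_of_injective (fun p : F × F => (p.1 : X) * act s (p.2 : X)) ?_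
    rintro ⟨a, b⟩ ⟨a', b'⟩ (e : (a : X) * act s (b : X) = a' * act s (b' : X))
    have e2 : act s (((b : F) * b'⁻¹ : F) : X) = ((a⁻¹ * a' : F) : X) := by
      rw [Subgroup.coe_mul, Subgroup.coe_mul, Subgroup.coe_inv, Subgroup.coe_inv, map_mul, map_inv,
        mul_inv_eq_iff_eq_mul, eq_comm, mul_assoc, inv_mul_eq_iff_eq_mul]
      exact e.symm
    rcases hinjkey s hs _ ((b * b'⁻¹ : F)).2 (e2 ▸ (a⁻¹ * a' : F).2) with h | h
    · exact absurd h hs1
    · have hb : b = b' := mul_inv_eq_one.1 (Subtype.ext h)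
      subst hb
      exact Prod.ext (Subtype.ext (mul_right_cancel e)) rfl

end Aut

end Cfsg.Agent.Char.TwoComp
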