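import Cfsg.Agent.Lib.Char.PermLemma
import Cfsg.Agent.Lib.Char.Linear
import Cfsg.Agent.Lib.Char.Ortho

/-!
# An automorphism fixing all nonlinear irreducible characters

If `α` fixes every nonlinear irreducible character, a coset of the derived subgroup moved by `α`
is a single class and all classes in the other cosets are fixed by `α`.
-/

set_option autoImplicit false
set_option linter.unusedSectionVars false

namespace Cfsg.Agent.Char.TwoComp

open Cfsg

universe u
variable {K : Type u} [Group K] [Fintype K] (α : MulAut K)

/-- The coset of `x` modulo the derived subgroup is moved by `α`. -/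
def Moved (x : K) : Prop := Abelianization.of (α x) ≠ Abelianization.of x

theorem of_eq_of_iff {x y : K} :
    Abelianization.of x = Abelianization.of y ↔ x⁻¹ * y ∈ commutator K := QuotientGroup.eq

theorem of_eq_one_iff {x : K} : Abelianization.of x = 1 ↔ x ∈ commutator K :=
  QuotientGroup.eq_one_iff x

theorem not_moved_of_mem {x : K} (hx : x ∈ commutator K) : ¬ Moved α x := by
  refine not_not.2 ?_
  rw [of_eq_one_iff.2 hx, of_eq_one_iff]
  have := Subgroup.mem_map_of_mem α.toMonoidHom hx
  rwa [_root_.commutator, Subgroup.map_commutator, Subgroup.map_top_of_surjective _ α.surjective,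
    ← _root_.commutator] at this

theorem card_fixed_linear :
    Nat.card {l : K →* ℂˣ // l.comp α.toMonoidHom = l} =
      Nat.card {a : Abelianization K // Abelianization.map α.toMonoidHom a = a} := by
  classical
  let A := Abelianization K
  let D : A →* A := Abelianization.map α.toMonoidHom * (MonoidHom.id A)⁻¹
  have hker : Nat.card {a : A // Abelianization.map α.toMonoidHom a = a} = Nat.card D.ker :=
    Nat.card_congr (Equiv.subtypeEquivRight fun a => by
      show _ ↔ Abelianization.map α.toMonoidHom a * a⁻¹ = 1
      rw [mul_inv_eq_one])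
  let e : (A ⧸ D.range →* ℂˣ) → {l : K →* ℂˣ // l.comp α.toMonoidHom = l} := fun f =>
    ⟨(f.comp (QuotientGroup.mk' D.range)).comp Abelianization.of, MonoidHom.ext fun x => by
      show f (QuotientGroup.mk (Abelianization.of (α x))) = f (QuotientGroup.mk (Abelianization.of x))
      congr 1
      rw [QuotientGroup.eq]
      refine ⟨(Abelianization.of x)⁻¹, ?_⟩
      show Abelianization.map α.toMonoidHom (Abelianization.of x)⁻¹ * ((Abelianization.of x)⁻¹)⁻¹ = _
      rw [map_inv, inv_inv, Abelianization.map_of]
      rfl⟩
  have he : Function.Bijective e := by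
    refine ⟨fun f g h => ?_, fun l => ?_⟩
    · refine MonoidHom.ext fun z => ?_
      obtain ⟨a, rfl⟩ := QuotientGroup.mk_surjective z
      obtain ⟨x, rfl⟩ := QuotientGroup.mk_surjective a
      exact DFunLike.congr_fun (congrArg Subtype.val h) x
    · let g : A →* ℂˣ := Abelianization.lift l.1
      refine ⟨QuotientGroup.lift D.range g ?_, Subtype.ext (MonoidHom.ext fun x => ?_)⟩
      · rintro _ ⟨a, rfl⟩
        obtain ⟨x, rfl⟩ := QuotientGroup.mk_surjective a
        show g (Abelianization.map α.toMonoidHom (Abelianization.of x) * (Abelianization.of x)⁻¹) = 1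
        rw [map_mul, map_inv, Abelianization.map_of]
        show g (Abelianization.of (α x)) * _ = 1
        rw [Abelianization.lift_apply_of, Abelianization.lift_apply_of, mul_inv_eq_one]
        exact DFunLike.congr_fun l.2 x
      · show g (Abelianization.of x) = _
        rw [Abelianization.lift_apply_of]
  rw [← Nat.card_congr (Equiv.ofBijective e he), hker]
  haveI : NeZero (Monoid.exponent (A ⧸ D.range)) := ⟨Monoid.exponent_ne_zero_of_finite⟩
  rw [CommGroup.card_monoidHom_of_hasEnoughRootsOfUnity (A ⧸ D.range) ℂ, ← Subgroup.index_eq_card]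
  have h1 := D.range.card_mul_index
  have h2 := D.ker.card_mul_index
  rw [Subgroup.index_ker, mul_comm] at h2
  rw [← h2] at h1
  exact Nat.eq_of_mul_eq_mul_left Nat.card_pos h1

/-- Moved classes are as many as moved cosets. -/
theorem card_moved_eq (hfix : ∀ χ : IrrCharacter K, (χ : K → ℂ) 1 ≠ 1 → irrComp α χ = χ) :
    Nat.card {C : ConjClasses K // ConjClasses.map α.toMonoidHom C ≠ C} =
      Nat.card {a : Abelianization K // Abelianization.map α.toMonoidHom a ≠ a} := by
  classical
  haveI := Fintype.ofFinite (ConjClasses K)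
  haveI := Fintype.ofFinite (Abelianization K)
  haveI : Finite (K →* ℂˣ) := linearEquiv.finite_iff.2 inferInstance
  haveI := Fintype.ofFinite (K →* ℂˣ)
  have key : ∀ χ : IrrCharacter K, irrComp α χ ≠ χ ↔
      ∃ l : K →* ℂˣ, l.comp α.toMonoidHom ≠ l ∧ (fun g => (l g : ℂ)) = (χ : K → ℂ) := by
    intro χ
    constructor
    · intro hne
      have h1 : (χ : K → ℂ) 1 = 1 := by_contra fun h => hne (hfix χ h)
      obtain ⟨l, hl⟩ := linearEquiv.surjective ⟨χ, h1⟩
      have hl' : (fun g => (l g : ℂ)) = (χ : K → ℂ) := congrArg (fun z => (z.1 : K → ℂ)) hl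
      refine ⟨l, fun e => hne (Subtype.ext (funext fun g => ?_)), hl'⟩
      rw [irrComp_apply, ← hl']
      exact congrArg Units.val (DFunLike.congr_fun e g)
    · rintro ⟨l, hl, hlχ⟩ e
      refine hl (MonoidHom.ext fun g => Units.ext ?_)
      have := congrFun (congrArg Subtype.val e) g
      rw [irrComp_apply, ← hlχ] at this
      exact this
  let e : {l : K →* ℂˣ // l.comp α.toMonoidHom ≠ l} → {χ : IrrCharacter K // irrComp α χ ≠ χ} :=
    fun l => ⟨⟨fun g => (l.1 g : ℂ), isIrrCharacter_linear l.1⟩, (key _).2 ⟨l.1, l.2, rfl⟩⟩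
  have he : Function.Bijective e := by
    refine ⟨fun a b h => Subtype.ext (MonoidHom.ext fun g => Units.ext ?_), fun χ => ?_⟩
    · exact congrFun (congrArg (fun z => (z.1 : K → ℂ)) h) g
    · obtain ⟨l, hl, hlχ⟩ := (key χ.1).1 χ.2
      exact ⟨⟨l, hl⟩, Subtype.ext (Subtype.ext hlχ)⟩
  have h1 := card_fixed_irr_eq_card_fixed_classes α
  have h2 : Nat.card (IrrCharacter K) = Nat.card (ConjClasses K) := card_irr
  have h3 := card_fixed_linear α
  have h4 : Nat.card (K →* ℂˣ) = Nat.card (Abelianization K) := card_hom_units.trans (Subgroup.index_eq_card _)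
  have h5 := Nat.card_congr (Equiv.ofBijective e he)
  simp only [Nat.card_eq_fintype_card, Fintype.card_subtype_compl] at h1 h2 h3 h4 h5 ⊢
  have h6 := Fintype.card_subtype_le (fun l : K →* ℂˣ => l.comp α.toMonoidHom = l)
  have h7 := Fintype.card_subtype_le (fun χ : IrrCharacter K => irrComp α χ = χ)
  omega

/-- The map from classes to cosets is injective on moved cosets, and classes over fixed cosets are fixed. -/
theorem classes_over_cosets (hfix : ∀ χ : IrrCharacter K, (χ : K → ℂ) 1 ≠ 1 → irrComp α χ = χ) :
    (∀ x, Moved α x → ∀ y, Abelianization.of y = Abelianization.of x → IsConj x y) ∧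
      ∀ x, ¬ Moved α x → IsConj x (α x) := by
  classical
  haveI := Fintype.ofFinite (ConjClasses K)
  haveI := Fintype.ofFinite (Abelianization K)
  let π : ConjClasses K → Abelianization K := Quotient.lift Abelianization.of fun x y h => by
    obtain ⟨c, rfl⟩ := isConj_iff.1 h
    rw [map_mul, map_mul, map_inv, mul_comm (Abelianization.of c), mul_inv_cancel_right]
  have hπ : ∀ x, π (ConjClasses.mk x) = Abelianization.of x := fun x => rfl
  have hequiv : ∀ x, π (ConjClasses.map α.toMonoidHom (ConjClasses.mk x)) =
      Abelianization.map α.toMonoidHom (π (ConjClasses.mk x)) := fun x => by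
    rw [hπ, Abelianization.map_of]; rfl
  set S : Finset (ConjClasses K) := Finset.univ.filter fun C => ConjClasses.map α.toMonoidHom C ≠ C with hS
  set S' : Finset (ConjClasses K) :=
    Finset.univ.filter fun C => Abelianization.map α.toMonoidHom (π C) ≠ π C with hS'
  set T : Finset (Abelianization K) := Finset.univ.filter fun a => Abelianization.map α.toMonoidHom a ≠ a with hT
  have hsub : S' ⊆ S := fun C hC => by
    obtain ⟨x, rfl⟩ := ConjClasses.mk_surjective C
    simp only [hS, hS', Finset.mem_filter, Finset.mem_univ, true_and] at hC ⊢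
    intro e
    exact hC (by rw [← hequiv, e])
  have himg : S'.image π = T := by
    ext a
    simp only [hS', hT, Finset.mem_image, Finset.mem_filter, Finset.mem_univ, true_and]
    refine ⟨fun ⟨C, hC, e⟩ => e ▸ hC, fun ha => ?_⟩
    obtain ⟨x, rfl⟩ := QuotientGroup.mk_surjective a
    exact ⟨ConjClasses.mk x, ha, rfl⟩
  have hcard : S.card = T.card := by
    have := card_moved_eq α hfix
    simpa only [Nat.card_eq_fintype_card, Fintype.card_subtype] using this
  have hle : T.card ≤ S'.card := himg ▸ Finset.card_image_le
  have hle' := Finset.card_le_card hsub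
  have heq : S' = S := Finset.eq_of_subset_of_card_le hsub (by omega)
  have hinj : Set.InjOn π (S' : Set (ConjClasses K)) :=
    Finset.injOn_of_card_image_eq (by rw [himg]; omega)
  constructor
  · intro x hx y hy
    refine ConjClasses.mk_eq_mk_iff_isConj.1 (hinj ?_ ?_ ?_)
    · simp only [hS', Finset.coe_filter, Finset.mem_univ, true_and, Set.mem_setOf_eq]
      rw [← hequiv]
      exact hx
    · simp only [hS', Finset.coe_filter, Finset.mem_univ, true_and, Set.mem_setOf_eq]
      rw [← hequiv]
      intro e
      refine hx ?_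
      have e' : Abelianization.map α.toMonoidHom (Abelianization.of y) = Abelianization.of y := by
        rw [Abelianization.map_of]; exact e
      rw [hy, Abelianization.map_of] at e'
      exact e'
    · exact hy.symm
  · intro x hx
    by_contra hne
    have hmem : ConjClasses.mk x ∈ S := Finset.mem_filter.2 ⟨Finset.mem_univ _, fun e =>
      hne (ConjClasses.mk_eq_mk_iff_isConj.1 e).symm⟩
    rw [← heq, hS', Finset.mem_filter, ← hequiv] at hmem
    exact hx hmem.2

end Cfsg.Agent.Char.TwoComp
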