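import Cfsg.Agent.Lib.Char.TwoCompDegrees.Noncentral

/-!
# All nonlinear degrees of the kernel are equal
-/

set_option autoImplicit false
set_option linter.unusedSectionVars false
set_option linter.style.haveILetI false

open scoped commutatorElement

namespace Cfsg.Agent.Char.TwoComp

open Cfsg

universe u
variable {K : Type u} [Group K] [Fintype K] {α : MulAut K} {r : ℕ} {C : Subgroup K}

theorem Common.derived_comm [Group.IsSolvable K] (hC : Common α r C) : (secA K).M = ⊥ := by
  classical
  by_contra hne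
  have hlt : ⁅(secA K).M, (secA K).M⁆ < (secA K).M := Group.IsSolvable.commutator_lt_of_ne_bot hne
  haveI := (secA K).hM
  have hex : ∃ n, ∃ N : Subgroup K, (N.Normal ∧ ⁅(secA K).M, (secA K).M⁆ ≤ N ∧ N < (secA K).M) ∧
      Nat.card (secA K).M - Nat.card N = n := ⟨_, _, ⟨inferInstance, le_rfl, hlt⟩, rfl⟩
  obtain ⟨N, ⟨hN, hle, hNlt⟩, hcard⟩ := Nat.find_spec hex
  let W : Sec K :=
    { L := (secA K).M, M := N, hL := (secA K).hM, hM := hN, le := hNlt.le,
      comm := fun x hx y hy => hle (Subgroup.commutator_mem_commutator hx hy) }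
  have hWne : ¬ W.L ≤ W.M := hNlt.not_ge
  have hirr : ∀ P : Subgroup K, P.Normal → W.M ≤ P → P ≤ W.L → P ≠ W.M → P = W.L := by
    intro P hP h1 h2 h3
    by_contra h4
    have hPlt : P < W.L := lt_of_le_of_ne h2 h4
    have h5 := Nat.find_min' hex ⟨P, ⟨hP, hle.trans h1, hPlt⟩, rfl⟩
    have h6 : Nat.card N < Nat.card P := lt_of_le_of_ne (Subgroup.card_le_of_le h1)
      fun e => h3 (Subgroup.eq_of_le_of_card_ge h1 e.ge).symm
    have h7 : Nat.card P ≤ Nat.card (secA K).M := Subgroup.card_le_of_le h2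
    have h8 : Nat.card P ≠ Nat.card (secA K).M := fun e => h4 (Subgroup.eq_of_le_of_card_ge h2 e.ge)
    omega
  by_cases hcen : (secA K).L ≤ W.act.ker
  · refine hC.no_central W rfl hWne fun z hz x hx => ?_
    have h1 : W.act z (W.cls ⟨x, hx⟩) = W.cls ⟨x, hx⟩ := by
      rw [MonoidHom.mem_ker.1 (hcen hz), MulAut.one_apply]
    exact (W.act_cls_eq_iff _ _ _).1 h1
  · exact hC.no_noncentral W rfl hWne hirr hcen

/-- All nonlinear degrees are equal. -/
theorem Data.deg_eq [Group.IsSolvable K] (hd : Data K α r) (χ ψ : IrrCharacter K)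
    (hχ : deg (χ : K → ℂ) ≠ 1) (hψ : deg (ψ : K → ℂ) ≠ 1) : deg (χ : K → ℂ) = deg (ψ : K → ℂ) := by
  classical
  obtain ⟨C, hC⟩ := hd.exists_common
  have hbot : ⁅commutator K, commutator K⁆ = (⊥ : Subgroup K) := hC.derived_comm
  haveI := Fintype.ofFinite (commutator K)
  have key : ∀ φ : IrrCharacter K, deg (φ : K → ℂ) ≠ 1 → deg (φ : K → ℂ) = C.index := by
    intro φ hφ
    obtain ⟨θ, hθ⟩ : ∃ θ : IrrCharacter (commutator K),
        classInner (fun n : commutator K => (φ : K → ℂ) n) (θ : commutator K → ℂ) ≠ 0 := by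
      by_contra hno
      push Not at hno
      obtain ⟨m, hm⟩ := exists_decomposition (isCharacter_comp (commutator K).subtype (irr_isCharacter φ.2))
      have h0 : ∀ θ, m θ = 0 := fun θ => by
        have h1 := decomposition_coeff m hm θ
        have h2 : classInner (fun g : commutator K => (φ : K → ℂ) g) (θ : commutator K → ℂ) = (m θ : ℂ) := h1
        rw [hno θ] at h2
        exact_mod_cast h2.symm
      refine irr_one_ne_zero φ.2 ?_
      have := congrFun hm 1
      simpa [h0] using this
    have hcomm : ∀ a b : commutator K, a * b = b * a := fun a b => Subtype.ext (by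
      have h := Subgroup.commutator_mem_commutator a.2 b.2
      rw [hbot, Subgroup.mem_bot, commutatorElement_def, mul_inv_eq_one, mul_inv_eq_iff_eq_mul] at h
      exact h)
    obtain ⟨l, hl⟩ := linearEquiv.surjective ⟨θ, forall_linear_iff_comm.1 hcomm θ⟩
    have hl' : (fun g => (l g : ℂ)) = (θ : commutator K → ℂ) := congrArg (fun z => (z.1 : commutator K → ℂ)) hl
    rw [← hl'] at hθ
    have hl1 : l ≠ 1 := fun e => hφ (deg_eq_one_of_trivial φ fun n hn => by
      subst e
      exact trivial_on_of_constituent (commutator K) φ (by simpa using hθ) ⟨n, hn⟩)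
    rw [hd.deg_over_linear l φ hθ, hC.stab_eq l hl1]
  rw [key χ hχ, key ψ hψ]

end Cfsg.Agent.Char.TwoComp
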