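import Cfsg.Agent.Lib.Char.Palfy.Split
import Cfsg.Agent.Lib.Char.Palfy.Dual
import Cfsg.Agent.Lib.Solv.FewDeg.Basic
import Cfsg.Agent.Lib.Char.Degree

/-!
# A nonabelian p-complemented quotient: all nonlinear degrees coincide
-/

set_option autoImplicit false
set_option linter.style.haveILetI false
set_option linter.unusedSectionVars false

namespace Cfsg.Agent.Char.TwoComp

open Cfsg Cfsg.Agent.Char.Palfy

universe u

/-- Each character of the inertia group in a complement gives a character over `θ`. -/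
theorem exists_degree_over {G : Type u} [Group G] [Fintype G] (N : Subgroup G) [N.Normal] [Fintype N] (H : Subgroup G)
    (hinf : N ⊓ H = ⊥) (hsup : N ⊔ H = ⊤) (θ : IrrCharacter N)
    (hco : (deg (θ : N → ℂ)).Coprime (Nat.card H)) [Fintype (inertiaH N H θ)] (β : IrrCharacter (inertiaH N H θ)) :
    ∃ χ : IrrCharacter G, classInner (fun n : N => (χ : G → ℂ) n) (θ : N → ℂ) ≠ 0 ∧
      deg (χ : G → ℂ) = (inertiaH N H θ).index * (deg (β : inertiaH N H θ → ℂ) * deg (θ : N → ℂ)) := by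
  classical
  revert β
  set K := inertiaH N H θ
  intro β
  set T : Subgroup G := N ⊔ K.map H.subtype with hTdef
  have hNT : N ≤ T := le_sup_left
  haveI := Fintype.ofFinite T
  obtain ⟨f, hf, hfker, hpr⟩ := exists_proj N H hinf T K hNT le_sup_right le_rfl
  -- the inertia group
  have hI : ∀ g : G, irrComp (MulAut.conjNormal g) θ = θ → g ∈ T := by
    intro g hg
    obtain ⟨n, hn, x, hx, rfl⟩ := Subgroup.mem_sup_of_normal_left.1 (hsup.ge (Subgroup.mem_top g))
    refine mul_mem (hNT hn) (Subgroup.mem_sup_right ⟨⟨x, hx⟩, fun m => ?_, rfl⟩)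
    have h1 := congrFun (congrArg Subtype.val hg) m
    rw [irrComp_apply, map_mul, MulAut.mul_apply] at h1
    rw [← h1, show MulAut.conjNormal n (MulAut.conjNormal x m) =
      (⟨n, hn⟩ : N) * MulAut.conjNormal x m * (⟨n, hn⟩ : N)⁻¹ from Subtype.ext (by simp [MulAut.conjNormal_apply]),
      isClassFunction_character (irr_isCharacter θ.2)]
  -- the normal subgroup inside
  haveI hN'n : (N.subgroupOf T).Normal := Subgroup.Normal.comap inferInstance _
  haveI := Fintype.ofFinite (N.subgroupOf T)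
  let e : N.subgroupOf T ≃* N := Subgroup.subgroupOfEquivOfLe hNT
  let θ' : IrrCharacter (N.subgroupOf T) := ⟨fun x => (θ : N → ℂ) (e x), isIrrCharacter_comp_equiv e θ.2⟩
  have hinvT : ∀ (g : T) (n : N), (θ : N → ℂ) (MulAut.conjNormal (g : G) n) = (θ : N → ℂ) n := by
    intro g n
    obtain ⟨m, hm, x, ⟨y, hy, rfl⟩, e⟩ := Subgroup.mem_sup_of_normal_left.1 g.2
    rw [← e, map_mul, MulAut.mul_apply,
      show MulAut.conjNormal m (MulAut.conjNormal (H.subtype y) n) =
        (⟨m, hm⟩ : N) * MulAut.conjNormal (H.subtype y) n * (⟨m, hm⟩ : N)⁻¹ from Subtype.ext (by simp [MulAut.conjNormal_apply]),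
      isClassFunction_character (irr_isCharacter θ.2)]
    exact hy n
  have hinv' : ∀ (g : T) (n : N.subgroupOf T), (θ' : N.subgroupOf T → ℂ) (MulAut.conjNormal g n) =
      (θ' : N.subgroupOf T → ℂ) n := by
    intro g n
    refine Eq.trans ?_ (hinvT g (e n))
    show (θ : N → ℂ) _ = (θ : N → ℂ) _
    congr 1
  have hker : f.ker = N.subgroupOf T := by
    ext x; rw [MonoidHom.mem_ker, hfker]; rfl
  have hidx : (N.subgroupOf T).index = Nat.card K := by
    rw [← hker, Subgroup.index_ker, MonoidHom.range_eq_top.2 hf, Subgroup.card_top]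
  have hdeg' : deg (θ' : N.subgroupOf T → ℂ) = deg (θ : N → ℂ) := by
    apply Nat.cast_injective (R := ℂ)
    rw [← char_one_eq_deg (irr_isCharacter θ'.2), ← char_one_eq_deg (irr_isCharacter θ.2)]
    show (θ : N → ℂ) (e 1) = _
    rw [map_one]
  -- extend
  obtain ⟨d₀, σ, hσ⟩ := irr_isCharacter θ'.2
  let D : N.subgroupOf T →* ℂˣ := detHom σ
  have hD : ∀ m : N.subgroupOf T, (D m : ℂ) = detChar (θ' : N.subgroupOf T → ℂ) m := fun m => by
    rw [detChar_eq_hom σ hσ]
  have hDinv : ∀ (g : T) (m : N.subgroupOf T), D (MulAut.conjNormal g m) = D m := fun g m => Units.ext (by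
    rw [hD, hD, detChar_conj_inv _ (irr_isCharacter θ'.2) hinv'])
  let kT : T →* T := (MonoidHom.mk' (fun a : K => (⟨((a : H) : G), Subgroup.mem_sup_right ⟨_, a.2, rfl⟩⟩ : T))
    (fun a b => rfl)).comp f
  let nu : T → N.subgroupOf T := fun x => ⟨x * (kT x)⁻¹, hpr x⟩
  have hnu : ∀ x y : T, nu (x * y) = nu x * MulAut.conjNormal (kT x) (nu y) := fun x y => Subtype.ext (by
    show x * y * (kT (x * y))⁻¹ = x * (kT x)⁻¹ * (MulAut.conjNormal (kT x) (nu y) : N.subgroupOf T)
    rw [MulAut.conjNormal_apply, map_mul]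
    show _ = x * (kT x)⁻¹ * (kT x * (y * (kT y)⁻¹) * (kT x)⁻¹)
    group)
  let μ : T →* ℂˣ := MonoidHom.mk' (fun x => D (nu x)) fun x y => by rw [hnu, map_mul, hDinv]
  have hnuN : ∀ m : N.subgroupOf T, nu (m : T) = m := fun m => Subtype.ext (by
    show (m : T) * (kT m)⁻¹ = m
    have : f (m : T) = 1 := (hfker _).2 m.2
    rw [show kT (m : T) = 1 by simp only [kT, MonoidHom.comp_apply, this, map_one], inv_one, mul_one])
  have hcop : (N.subgroupOf T).index.Coprime (deg (θ' : N.subgroupOf T → ℂ)) := by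
    rw [hidx, hdeg']
    exact (hco.coprime_dvd_right (Subgroup.card_subgroup_dvd_card K)).symm
  obtain ⟨η, hη, hηres⟩ := exists_extension_of_det_extension (N.subgroupOf T) θ'.2 hinv' _
    (char_one_eq_deg (irr_isCharacter θ'.2)) hcop μ fun m => by
      show (D (nu (m : T)) : ℂ) = _
      rw [hnuN, hD]
  have hTi : T.index = K.index := by
    have h1 := Subgroup.card_mul_index T
    have h2 := Subgroup.card_mul_index K
    have h3 : Nat.card T = Nat.card N * Nat.card K := by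
      rw [← Subgroup.card_mul_index (N.subgroupOf T), hidx, Nat.card_congr e.toEquiv]
    have h4 : Nat.card G = Nat.card N * Nat.card H := by
      have hc : Subgroup.IsComplement' N H := Subgroup.isComplement'_of_disjoint_and_mul_eq_univ
        (disjoint_iff.2 hinf) (by rw [← Subgroup.normal_mul, hsup, Subgroup.coe_top])
      exact hc.card_mul.symm
    rw [h4, h3, ← h2, mul_assoc] at h1
    exact Nat.eq_of_mul_eq_mul_left Nat.card_pos (Nat.eq_of_mul_eq_mul_left Nat.card_pos h1)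
  have hb : IsIrrCharacter T (fun x => (β : K → ℂ) (f x)) := isIrr_comp_surjective f hf β.2
  have hbN : ∀ m : N.subgroupOf T, (fun x : T => (β : K → ℂ) (f x)) m = (fun x : T => (β : K → ℂ) (f x)) 1 :=
    fun m => by
      show (β : K → ℂ) (f m) = (β : K → ℂ) (f 1)
      rw [(hfker (m : T)).2 m.2, map_one]
  obtain ⟨hirr, hover⟩ := (gallagher_one (N.subgroupOf T) θ' (irr_isCharacter hη) hηres).mapsTo ⟨hb, hbN⟩
  let ψ : IrrCharacter T := ⟨_, hirr⟩
  have hres : classInner (resN T hNT (ψ : T → ℂ)) (θ : N → ℂ) ≠ 0 := by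
    rw [← classInner_subgroupOf hNT]
    exact hover
  obtain ⟨χ, hχ⟩ := exists_constituent_over T ψ
  obtain ⟨hind, hθ, -⟩ := clifford_ind hI hres hχ
  refine ⟨χ, hθ, ?_⟩
  have hdeg : deg (χ : G → ℂ) = T.index * (deg (β : K → ℂ) * deg (θ : N → ℂ)) := by
    apply Nat.cast_injective (R := ℂ)
    rw [← char_one_eq_deg (irr_isCharacter χ.2), hind, indFun_one, Nat.cast_mul, Nat.cast_mul]
    congr 1
    show (β : K → ℂ) (f 1) * η 1 = _
    rw [map_one, char_one_eq_deg (irr_isCharacter β.2),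
      show η 1 = η ((1 : N.subgroupOf T) : T) from rfl, hηres, char_one_eq_deg (irr_isCharacter θ'.2), hdeg']
  rw [hdeg, hTi]

/-- With a nonabelian quotient by a normal `p`-complement, all nonlinear degrees are equal. -/
theorem deg_eq_of_nonabelian_quotient {K : Type u} [Group K] [Fintype K]
    (anti : ∀ χ ψ : IrrCharacter K, deg (χ : K → ℂ) ≠ 1 → deg (χ : K → ℂ) ∣ deg (ψ : K → ℂ) →
      deg (ψ : K → ℂ) = deg (χ : K → ℂ))
    {p n : ℕ} (hp : p.Prime) (Q : Subgroup K) [Q.Normal] (hQ : (Nat.card Q).Coprime p) (hidx : Q.index = p ^ n)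
    (hna : ¬ commutator K ≤ Q) (χ : IrrCharacter K) (hχ : deg (χ : K → ℂ) ≠ 1) :
    ∀ ψ : IrrCharacter K, deg (ψ : K → ℂ) ≠ 1 → deg (ψ : K → ℂ) = deg (χ : K → ℂ) := by
  classical
  haveI := Fact.mk hp
  haveI := Fintype.ofFinite Q
  obtain ⟨H, hH⟩ := Subgroup.exists_right_complement'_of_coprime (N := Q) (hidx ▸ hQ.pow_right n)
  have hinf : Q ⊓ H = ⊥ := hH.disjoint.eq_bot
  have hsup : Q ⊔ H = ⊤ := hH.sup_eq_top
  have hHcard : Nat.card H = p ^ n := hidx ▸ hH.symm.index_eq_card.symm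
  -- the degree of the quotient
  haveI := Fintype.ofFinite (K ⧸ Q)
  obtain ⟨β₀, hβ₀⟩ : ∃ β₀ : IrrCharacter (K ⧸ Q), deg (β₀ : K ⧸ Q → ℂ) ≠ 1 := by
    by_contra hall
    push Not at hall
    refine hna ?_
    have hc := forall_linear_iff_comm.2 fun β : IrrCharacter (K ⧸ Q) => by
      rw [char_one_eq_deg (irr_isCharacter β.2), hall β, Nat.cast_one]
    rw [_root_.commutator, Subgroup.commutator_le]
    intro a _ b _
    rw [← QuotientGroup.eq_one_iff, commutatorElement_def]
    show (a : K ⧸ Q) * b * (a : K ⧸ Q)⁻¹ * (b : K ⧸ Q)⁻¹ = 1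
    rw [hc (a : K ⧸ Q) (b : K ⧸ Q), mul_inv_cancel_right, mul_inv_cancel]
  obtain ⟨φ₀, hφ₀⟩ := exists_deg_comp_surjective (QuotientGroup.mk' Q) (QuotientGroup.mk'_surjective Q) β₀
  obtain ⟨a, -, ha⟩ := (Nat.dvd_prime_pow hp).1 (hidx ▸ Q.index_eq_card ▸ deg_dvd_card β₀.2)
  have key : ∀ ψ : IrrCharacter K, deg (ψ : K → ℂ) ≠ 1 → deg (ψ : K → ℂ) = deg (φ₀ : K → ℂ) := by
    intro ψ hψ
    obtain ⟨θ, hθ⟩ : ∃ θ : IrrCharacter Q, classInner (fun x : Q => (ψ : K → ℂ) x) (θ : Q → ℂ) ≠ 0 := by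
      by_contra hno
      push Not at hno
      obtain ⟨m, hm⟩ := exists_decomposition (isCharacter_comp Q.subtype (irr_isCharacter ψ.2))
      have h0 : ∀ θ, m θ = 0 := fun θ => by
        have h1 := decomposition_coeff m hm θ
        have h2 : classInner (fun g : Q => (ψ : K → ℂ) g) (θ : Q → ℂ) = (m θ : ℂ) := h1
        rw [hno θ] at h2
        exact_mod_cast h2.symm
      refine irr_one_ne_zero ψ.2 ?_
      simpa [h0] using congrFun hm 1
    have hco : (deg (θ : Q → ℂ)).Coprime (Nat.card H) := by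
      rw [hHcard]; exact (hQ.coprime_dvd_left (deg_dvd_card θ.2)).pow_right n
    set I := inertiaH Q H θ with hI
    haveI := Fintype.ofFinite I
    obtain ⟨T, η, e, hQT, hη, hind, -, hT, hres, -⟩ := exists_correspondent ψ.2 Q θ hθ
    haveI := Fintype.ofFinite T
    -- the inertia index
    have hTcomap : (T.map (QuotientGroup.mk' Q)).comap (QuotientGroup.mk' Q) = T := by
      rw [Subgroup.comap_map_eq, QuotientGroup.ker_mk', sup_eq_left.2 hQT]
    have hTI : T.index = I.index := by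
      have hsurj : Function.Surjective ((QuotientGroup.mk' Q).comp H.subtype) := by
        intro z
        obtain ⟨x, rfl⟩ := QuotientGroup.mk'_surjective Q z
        obtain ⟨u, hu, v, hv, rfl⟩ := Subgroup.mem_sup_of_normal_left.1 (hsup.ge (Subgroup.mem_top x))
        refine ⟨⟨v, hv⟩, ?_⟩
        simp [(QuotientGroup.eq_one_iff u).2 hu]
      have hIeq : I = (T.map (QuotientGroup.mk' Q)).comap ((QuotientGroup.mk' Q).comp H.subtype) := by
        rw [← Subgroup.comap_comap, hTcomap]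
        ext x
        rw [Subgroup.mem_comap, hI, mem_inertiaH, Subgroup.coe_subtype, hT]
      rw [hIeq, Subgroup.index_comap_of_surjective _ hsurj]
      conv_lhs => rw [← hTcomap, Subgroup.index_comap_of_surjective _ (QuotientGroup.mk'_surjective Q)]
    have hdvd : I.index * deg (θ : Q → ℂ) ∣ deg (ψ : K → ℂ) := by
      refine ⟨e, Nat.cast_injective (R := ℂ) ?_⟩
      have h2 := hres 1
      rw [map_one] at h2
      rw [← char_one_eq_deg (irr_isCharacter ψ.2), hind, indFun_one, h2,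
        char_one_eq_deg (irr_isCharacter θ.2), hTI, Nat.cast_mul, Nat.cast_mul]
      ring
    have hdeg := exists_degree_over Q H hinf hsup θ hco
    obtain ⟨χ₁, -, hχ₁⟩ := hdeg ⟨fun _ => 1, isIrrCharacter_one⟩
    rw [show deg (fun _ : I => (1 : ℂ)) = 1 by simp [deg], one_mul] at hχ₁
    by_cases hd1 : I.index * deg (θ : Q → ℂ) = 1
    · have hθ1 : deg (θ : Q → ℂ) = 1 := Nat.eq_one_of_mul_eq_one_left hd1
      obtain ⟨k, hk, hkd⟩ := Cfsg.Agent.Solv.FewDeg.deg_over Q hθ
      rw [hθ1, mul_one] at hk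
      obtain ⟨i, -, hi⟩ := (Nat.dvd_prime_pow hp).1 (hidx ▸ hkd)
      rcases le_total i a with h | h
      · exact (anti ψ φ₀ hψ (by rw [hk, hi, hφ₀, ha]; exact pow_dvd_pow p h)).symm
      · exact anti φ₀ ψ (hφ₀ ▸ hβ₀) (by rw [hk, hi, hφ₀, ha]; exact pow_dvd_pow p h)
    · have hψd : deg (ψ : K → ℂ) = deg (χ₁ : K → ℂ) := anti χ₁ ψ (hχ₁ ▸ hd1) (hχ₁ ▸ hdvd)
      have hIab : ∀ x y : I, x * y = y * x := forall_linear_iff_comm.2 fun β => by
        obtain ⟨χ₂, -, hχ₂⟩ := hdeg β
        have h := anti χ₁ χ₂ (hχ₁ ▸ hd1) (by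
          rw [hχ₁, hχ₂]; exact mul_dvd_mul_left _ (dvd_mul_left _ _))
        rw [hχ₁, hχ₂] at h
        have h' := Nat.eq_of_mul_eq_mul_left (Nat.pos_of_ne_zero Subgroup.index_ne_zero_of_finite) h
        rw [char_one_eq_deg (irr_isCharacter β.2),
          (Nat.mul_eq_right (deg_pos θ.2).ne').1 h', Nat.cast_one]
      let A := T.map (QuotientGroup.mk' Q)
      have hAab : ∀ x y : A, x * y = y * x := by
        have hdec : ∀ z : A, ∃ v : I, ((((v : H) : K)) : K ⧸ Q) = (z : K ⧸ Q) := by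
          rintro ⟨_, t, ht, rfl⟩
          obtain ⟨u, hu, v, hv, rfl⟩ := Subgroup.mem_sup_of_normal_left.1 (hsup.ge (Subgroup.mem_top t))
          refine ⟨⟨⟨v, hv⟩, (mem_inertiaH Q H).2 ((hT v).1 ?_)⟩, ?_⟩
          · simpa using T.mul_mem (T.inv_mem (hQT hu)) ht
          · simp [(QuotientGroup.eq_one_iff u).2 hu]
        intro x y
        obtain ⟨v, hv⟩ := hdec x
        obtain ⟨w, hw⟩ := hdec y
        apply Subtype.ext
        rw [Subgroup.coe_mul, Subgroup.coe_mul, ← hv, ← hw, ← QuotientGroup.mk_mul, ← QuotientGroup.mk_mul]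
        exact congrArg (fun z : I => (((z : H) : K) : K ⧸ Q)) (hIab v w)
      have hle := degree_le_index_of_comm β₀ A hAab
      rw [char_one_eq_deg (irr_isCharacter β₀.2), Complex.natCast_re, Nat.cast_le] at hle
      have hAidx : A.index = I.index := by
        rw [← hTI]
        conv_rhs => rw [← hTcomap, Subgroup.index_comap_of_surjective _ (QuotientGroup.mk'_surjective Q)]
      rw [hAidx, ha] at hle
      obtain ⟨j, -, hj⟩ := (Nat.dvd_prime_pow hp).1 (hHcard ▸ I.index_dvd_card)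
      rw [hj] at hle
      rw [hψd]
      refine anti φ₀ χ₁ (hφ₀ ▸ hβ₀) ?_
      rw [hφ₀, ha, hχ₁, hj]
      exact (pow_dvd_pow p ((Nat.pow_le_pow_iff_right hp.one_lt).1 hle)).trans (dvd_mul_right _ _)
  intro ψ hψ
  rw [key ψ hψ, key χ hχ]

end Cfsg.Agent.Char.TwoComp
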