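import Cfsg.Agent.Lib.Char.TwoCompDegrees.Kernel
import Cfsg.Agent.Lib.Char.TwoCompDegrees.PTop
import Cfsg.Agent.Lib.Solv.FewDeg.Structure
import Cfsg.Agent.Lib.Solv.FewDeg.Length
import Cfsg.Agent.Lib.Char.BlockBasic
import Cfsg.Agent.Lib.Char.CliffordCorr

/-!
# Solvable groups without divisibility among degrees and with a disconnected degree graph
-/

set_option autoImplicit false
set_option linter.style.haveILetI false
set_option linter.unusedSectionVars false

open scoped commutatorElement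

namespace Cfsg.Agent.Char.TwoComp

open Cfsg Cfsg.Agent.Solv.FewDeg
open TaketaBound (degSet)

universe u

variable {G : Type u} [Group G] [Fintype G]

theorem mem_charDegrees_iff {d : ℕ} : d ∈ Cfsg.charDegrees G ↔ d ∈ degSet G := by
  constructor
  · rintro ⟨χ, rfl⟩
    rw [charDegree_eq_deg]
    exact mem_degSet χ
  · intro h
    obtain ⟨χ, hχ⟩ := exists_of_mem_degSet h
    exact ⟨χ, hχ ▸ charDegree_eq_deg _⟩

theorem pos_of_mem {d : ℕ} (h : d ∈ degSet G) : 0 < d := by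
  obtain ⟨χ, rfl⟩ := exists_of_mem_degSet h
  exact deg_pos χ.2

/-- A vertex reaching all others contradicts two components. -/
theorem no_centre (htwo : Nat.card ((Cfsg.degreeGraph G).induce (Cfsg.degreePrimes G)).ConnectedComponent = 2)
    (h : ∀ q r : Cfsg.degreePrimes G, ((Cfsg.degreeGraph G).induce (Cfsg.degreePrimes G)).Reachable q r) : False := by
  haveI : Subsingleton ((Cfsg.degreeGraph G).induce (Cfsg.degreePrimes G)).ConnectedComponent := by
    constructor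
    intro a b
    induction a using SimpleGraph.ConnectedComponent.ind with | _ q =>
    induction b using SimpleGraph.ConnectedComponent.ind with | _ r =>
    exact SimpleGraph.ConnectedComponent.eq.2 (h q r)
  rcases isEmpty_or_nonempty ((Cfsg.degreeGraph G).induce (Cfsg.degreePrimes G)).ConnectedComponent with h1 | h1
  · rw [Nat.card_of_isEmpty] at htwo; omega
  · rw [Nat.card_of_subsingleton h1.some] at htwo; omega

theorem reach {x y : ℕ} (hx : x ∈ Cfsg.degreePrimes G) (hy : y ∈ Cfsg.degreePrimes G) {d : ℕ} (hd : d ∈ degSet G)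
    (hxd : x ∣ d) (hyd : y ∣ d) :
    ((Cfsg.degreeGraph G).induce (Cfsg.degreePrimes G)).Reachable ⟨x, hx⟩ ⟨y, hy⟩ := by
  by_cases h : x = y
  · subst h; exact SimpleGraph.Reachable.refl _
  · exact SimpleGraph.Adj.reachable (SimpleGraph.induce_adj.2 ⟨h, hx.1, hy.1, d, mem_charDegrees_iff.2 hd,
      Nat.Coprime.mul_dvd_of_dvd_of_dvd ((Nat.coprime_primes hx.1 hy.1).2 h) hxd hyd⟩)

variable [Group.IsSolvable G]
  (hnd : ∀ a ∈ degSet G, ∀ b ∈ degSet G, 1 < a → a < b → ¬ a ∣ b)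
  (htwo : Nat.card ((Cfsg.degreeGraph G).induce (Cfsg.degreePrimes G)).ConnectedComponent = 2)
include hnd htwo

omit htwo in
theorem eq_of_dvd {a b : ℕ} (ha : a ∈ degSet G) (hb : b ∈ degSet G) (ha1 : a ≠ 1) (h : a ∣ b) : b = a := by
  have := pos_of_mem ha
  rcases (Nat.le_of_dvd (pos_of_mem hb) h).eq_or_lt with e | e
  · exact e.symm
  · exact absurd h (hnd a ha b hb (by omega) e)

omit hnd in
theorem exists_not_dvd {p : ℕ} (hp : p.Prime) : ∃ d ∈ degSet G, d ≠ 1 ∧ ¬ p ∣ d := by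
  by_contra hno
  push Not at hno
  refine no_centre htwo ?_
  rintro ⟨q, hq⟩ ⟨r, hr⟩
  obtain ⟨hqp, d, hd, hqd⟩ := id hq
  obtain ⟨hrp, d', hd', hrd⟩ := id hr
  have hd1 : d ≠ 1 := fun e => hqp.ne_one (Nat.dvd_one.1 (e ▸ hqd))
  have hd'1 : d' ≠ 1 := fun e => hrp.ne_one (Nat.dvd_one.1 (e ▸ hrd))
  have hpd := hno d (mem_charDegrees_iff.1 hd) hd1
  have hpd' := hno d' (mem_charDegrees_iff.1 hd') hd'1
  have hpP : p ∈ Cfsg.degreePrimes G := ⟨hp, d, hd, hpd⟩
  exact (reach hq hpP (mem_charDegrees_iff.1 hd) hqd hpd).trans (reach hpP hr (mem_charDegrees_iff.1 hd') hpd' hrd)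

omit hnd in
theorem nonabelian : ¬ ∀ a b : G, a * b = b * a := by
  intro hc
  refine no_centre htwo ?_
  rintro ⟨q, hq⟩ -
  exfalso
  obtain ⟨hqp, d, hd, hqd⟩ := id hq
  obtain ⟨χ, rfl⟩ := exists_of_mem_degSet (mem_charDegrees_iff.1 hd)
  have h1 := forall_linear_iff_comm.1 hc χ
  rw [char_one_eq_deg (irr_isCharacter χ.2), Nat.cast_eq_one] at h1
  exact hqp.ne_one (Nat.dvd_one.1 (h1 ▸ hqd))

/-- The nilpotent case does not occur. -/
theorem quotient_not_nilpotent (N : Subgroup G) [N.Normal] (hna : ¬ ∀ a b : G ⧸ N, a * b = b * a)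
    (hmin : ∀ M : Subgroup (G ⧸ N), M.Normal → M ≠ ⊥ → commutator (G ⧸ N) ≤ M) : ¬ Group.IsNilpotent (G ⧸ N) := by
  classical
  intro hnil
  obtain ⟨p, k, hp, hcard⟩ := isPGroup_of_minimal hna hmin
  haveI := Fintype.ofFinite N
  haveI := Fintype.ofFinite (G ⧸ N)
  obtain ⟨b, hb⟩ : ∃ β : IrrCharacter (G ⧸ N), deg (β : G ⧸ N → ℂ) ≠ 1 := by
    by_contra hall
    push Not at hall
    refine hna (forall_linear_iff_comm.2 fun β => ?_)
    rw [char_one_eq_deg (irr_isCharacter β.2), hall β, Nat.cast_one]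
  obtain ⟨d, hd, hd1, hpd⟩ := exists_not_dvd htwo hp
  obtain ⟨ψ, rfl⟩ := exists_of_mem_degSet hd
  obtain ⟨θ, hθ⟩ : ∃ θ : IrrCharacter N, classInner (fun n : N => (ψ : G → ℂ) n) (θ : N → ℂ) ≠ 0 := by
    by_contra hno
    push Not at hno
    obtain ⟨m, hm⟩ := exists_decomposition (isCharacter_comp N.subtype (irr_isCharacter ψ.2))
    have h0 : ∀ θ, m θ = 0 := fun θ => by
      have h1 := decomposition_coeff m hm θ
      have h2 : classInner (fun g : N => (ψ : G → ℂ) g) (θ : N → ℂ) = (m θ : ℂ) := h1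
      rw [hno θ] at h2
      exact_mod_cast h2.symm
    refine irr_one_ne_zero ψ.2 ?_
    simpa [h0] using congrFun hm 1
  obtain ⟨j, hj, hjd⟩ := deg_over N hθ
  rw [Subgroup.index_eq_card, hcard] at hjd
  obtain ⟨i, -, rfl⟩ := (Nat.dvd_prime_pow hp).1 hjd
  have hi : i = 0 := by_contra fun h => hpd (hj ▸ (dvd_pow_self p h).trans (dvd_mul_right _ _))
  rw [hi, pow_zero, one_mul] at hj
  have hres : (fun n : N => (ψ : G → ℂ) n) = (θ : N → ℂ) := by
    refine eq_of_inner_ne_zero_of_deg (isCharacter_comp N.subtype (irr_isCharacter ψ.2)) θ hθ ?_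
    show (ψ : G → ℂ) ((1 : N) : G) = _
    rw [OneMemClass.coe_one, char_one_eq_deg (irr_isCharacter ψ.2), hj, char_one_eq_deg (irr_isCharacter θ.2)]
  obtain ⟨hirr, -⟩ := (gallagher_one N θ (irr_isCharacter ψ.2) (congrFun hres)).mapsTo
    (x := ((inflateEquiv N b).1 : G → ℂ)) ⟨(inflateEquiv N b).1.2, fun n => (inflateEquiv N b).2 n n.2⟩
  have hdeg : deg (((inflateEquiv N b).1 : G → ℂ) * (ψ : G → ℂ)) = deg (b : G ⧸ N → ℂ) * deg (ψ : G → ℂ) := by
    apply Nat.cast_injective (R := ℂ)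
    rw [← char_one_eq_deg (χ := ((inflateEquiv N b).1 : G → ℂ) * (ψ : G → ℂ)) (irr_isCharacter hirr), Pi.mul_apply,
      inflateEquiv_apply, QuotientGroup.mk_one, char_one_eq_deg (irr_isCharacter b.2),
      char_one_eq_deg (irr_isCharacter ψ.2), Nat.cast_mul]
  have h1 := eq_of_dvd hnd hd (mem_degSet ⟨_, hirr⟩) hd1 (by rw [hdeg]; exact dvd_mul_left _ _)
  rw [hdeg] at h1
  exact hb ((Nat.mul_eq_right (deg_pos ψ.2).ne').1 h1)

/-- Solvable groups without divisibility among degrees and with two components have three degrees. -/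
theorem three_degrees : (degSet G).card = 3 := by
  classical
  -- a minimal nonabelian quotient
  obtain ⟨N, hNn, hna, hmin⟩ : ∃ N : Subgroup G, ∃ _ : N.Normal, (¬ ∀ a b : G ⧸ N, a * b = b * a) ∧
      ∀ M : Subgroup (G ⧸ N), M.Normal → M ≠ ⊥ → commutator (G ⧸ N) ≤ M := by
    have hex : ∃ n, ∃ N : Subgroup G, N.Normal ∧ ¬ commutator G ≤ N ∧ N.index = n := by
      refine ⟨_, ⊥, inferInstance, fun h => nonabelian htwo fun a b => ?_, rfl⟩
      have := h (Subgroup.commutator_mem_commutator (Subgroup.mem_top a) (Subgroup.mem_top b))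
      rwa [Subgroup.mem_bot, commutatorElement_eq_one_iff_mul_comm] at this
    obtain ⟨N, hN, hc, hidx⟩ := Nat.find_spec hex
    refine ⟨N, hN, fun hcomm => hc ?_, fun M hM hM1 => ?_⟩
    · rw [_root_.commutator, Subgroup.commutator_le]
      intro a _ b _
      rw [← QuotientGroup.eq_one_iff, commutatorElement_def]
      show (a : G ⧸ N) * b * (a : G ⧸ N)⁻¹ * (b : G ⧸ N)⁻¹ = 1
      rw [hcomm (a : G ⧸ N) (b : G ⧸ N), mul_inv_cancel_right, mul_inv_cancel]
    · have hsurj := QuotientGroup.mk'_surjective N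
      have hMc : commutator G ≤ M.comap (QuotientGroup.mk' N) := by
        by_contra hno
        have h1 := Nat.find_min' hex ⟨M.comap (QuotientGroup.mk' N), inferInstance, hno, rfl⟩
        rw [Subgroup.index_comap_of_surjective _ hsurj] at h1
        rw [← hidx, N.index_eq_card, ← Subgroup.card_mul_index M] at h1
        have h2 : 1 < Nat.card M := (Subgroup.one_lt_card_iff_ne_bot M).2 hM1
        have h3 : 0 < M.index := Nat.pos_of_ne_zero Subgroup.index_ne_zero_of_finite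
        nlinarith
      have h4 := (Subgroup.map_le_iff_le_comap).2 hMc
      rwa [_root_.commutator, Subgroup.map_commutator, Subgroup.map_top_of_surjective _ hsurj,
        ← _root_.commutator] at h4
  haveI := hNn
  obtain ⟨p, hp, hexp, hVtop, hpV, hfpf⟩ :=
    frobenius_quotient hna hmin (quotient_not_nilpotent hnd htwo N hna hmin)
  haveI := Fact.mk hp
  set V := commutator (G ⧸ N) with hV
  set K : Subgroup G := V.comap (QuotientGroup.mk' N) with hK
  haveI : K.Normal := Subgroup.Normal.comap inferInstance _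
  haveI := Fintype.ofFinite K
  have hKidx : K.index = V.index := Subgroup.index_comap_of_surjective _ (QuotientGroup.mk'_surjective N)
  have hGK : ∀ x y : G, x * y * x⁻¹ * y⁻¹ ∈ K := fun x y => comm_mem_commutator (x : G ⧸ N) (y : G ⧸ N)
  have hpow : ∀ n ∈ K, n ^ p ∈ N := fun n hn => by
    rw [← QuotientGroup.eq_one_iff, QuotientGroup.mk_pow]; exact hexp _ hn
  obtain ⟨hV0, hVab⟩ := commutator_minimal hna hmin
  have hfix : ∀ g, g ∉ K → ∀ n ∈ K, g * n * g⁻¹ * n⁻¹ ∈ N → n ∈ N := fun g hg n hn h => by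
    rw [← QuotientGroup.eq_one_iff] at h ⊢
    simp only [QuotientGroup.mk_mul, QuotientGroup.mk_inv] at h
    rw [mul_inv_eq_one, mul_inv_eq_iff_eq_mul] at h
    exact hfpf _ hg _ hn h
  have hKN : ∀ a ∈ K, ∀ b ∈ K, a * b * a⁻¹ * b⁻¹ ∈ N := fun a ha b hb => by
    rw [← QuotientGroup.eq_one_iff]
    simp only [QuotientGroup.mk_mul, QuotientGroup.mk_inv]
    rw [hVab (a : G ⧸ N) ha (b : G ⧸ N) hb, mul_inv_cancel_right, mul_inv_cancel]
  have hne : ¬ K ≤ N := fun h => hV0 (by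
    rw [Subgroup.eq_bot_iff_forall]
    intro v hv
    obtain ⟨x, rfl⟩ := QuotientGroup.mk_surjective v
    exact (QuotientGroup.eq_one_iff x).2 (h hv))
  have hlift : ∀ ψ : IrrCharacter K, ¬ p ∣ deg (ψ : K → ℂ) → K.index * deg (ψ : K → ℂ) ∈ degSet G :=
    fun ψ hψ => lift_degree N K hGK hp hpow hfix hKN hne ψ hψ
  set f := K.index with hf
  have hf1 : f ≠ 1 := fun e => hVtop (Subgroup.index_eq_one.1 (hKidx ▸ e))
  have hpf : ¬ p ∣ f := hKidx ▸ hpV
  have hfmem : f ∈ degSet G := by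
    have := hlift ⟨fun _ => 1, isIrrCharacter_one⟩ (by rw [deg_trivial]; exact hp.not_dvd_one)
    rwa [deg_trivial, mul_one] at this
  -- nonlinear characters of the kernel
  have hpθ : ∀ θ : IrrCharacter K, deg (θ : K → ℂ) ≠ 1 → p ∣ deg (θ : K → ℂ) := fun θ hθ => by
    by_contra hno
    have h1 := eq_of_dvd hnd hfmem (hlift θ hno) hf1 (dvd_mul_right _ _)
    exact hθ ((Nat.mul_eq_left (Subgroup.index_ne_zero_of_finite)).1 h1)
  have hcons : ∀ χ : IrrCharacter G, ∃ θ : IrrCharacter K,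
      classInner (fun n : K => (χ : G → ℂ) n) (θ : K → ℂ) ≠ 0 := by
    intro χ
    by_contra hno
    push Not at hno
    obtain ⟨m, hm⟩ := exists_decomposition (isCharacter_comp K.subtype (irr_isCharacter χ.2))
    have h0 : ∀ θ, m θ = 0 := fun θ => by
      have h1 := decomposition_coeff m hm θ
      have h2 : classInner (fun g : K => (χ : G → ℂ) g) (θ : K → ℂ) = (m θ : ℂ) := h1
      rw [hno θ] at h2
      exact_mod_cast h2.symm
    refine irr_one_ne_zero χ.2 ?_
    simpa [h0] using congrFun hm 1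
  have hdich : ∀ d ∈ degSet G, d ≠ 1 → d = f ∨ p ∣ d := by
    intro d hd hd1
    obtain ⟨χ, rfl⟩ := exists_of_mem_degSet hd
    obtain ⟨θ, hθ⟩ := hcons χ
    obtain ⟨k, hk, hkf⟩ := deg_over K hθ
    by_cases h1 : deg (θ : K → ℂ) = 1
    · rw [h1, mul_one] at hk
      exact Or.inl (eq_of_dvd hnd hd hfmem hd1 (hk ▸ hkf)).symm
    · exact Or.inr (hk ▸ (hpθ θ h1).trans (dvd_mul_left _ _))
  have hcop : ∀ d ∈ degSet G, p ∣ d → f.Coprime d := by
    intro d hd hpd
    refine Nat.coprime_of_dvd fun q hq hqf hqd => no_centre htwo ?_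
    have hqP : q ∈ Cfsg.degreePrimes G := ⟨hq, f, mem_charDegrees_iff.2 hfmem, hqf⟩
    have hpP : p ∈ Cfsg.degreePrimes G := ⟨hp, d, mem_charDegrees_iff.2 hd, hpd⟩
    have key : ∀ x : Cfsg.degreePrimes G,
        ((Cfsg.degreeGraph G).induce (Cfsg.degreePrimes G)).Reachable x ⟨q, hqP⟩ := by
      rintro ⟨x, hx⟩
      obtain ⟨hxp, e, he, hxe⟩ := id hx
      have he1 : e ≠ 1 := fun e1 => hxp.ne_one (Nat.dvd_one.1 (e1 ▸ hxe))
      rcases hdich e (mem_charDegrees_iff.1 he) he1 with h | h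
      · exact reach hx hqP hfmem (h ▸ hxe) hqf
      · exact (reach hx hpP (mem_charDegrees_iff.1 he) hxe h).trans (reach hpP hqP hd hpd hqd)
    exact fun a b => (key a).trans (key b).symm
  have hover : ∀ (θ : IrrCharacter K) (χ : IrrCharacter G), deg (θ : K → ℂ) ≠ 1 →
      classInner (fun n : K => (χ : G → ℂ) n) (θ : K → ℂ) ≠ 0 →
      deg (χ : G → ℂ) = deg (θ : K → ℂ) ∧ (fun n : K => (χ : G → ℂ) n) = (θ : K → ℂ) := by
    intro θ χ hθ1 hθ
    obtain ⟨k, hk, hkf⟩ := deg_over K hθ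
    have hk1 : k = 1 := Nat.eq_one_of_dvd_coprimes (hcop _ (mem_degSet χ) (hk ▸ (hpθ θ hθ1).trans (dvd_mul_left _ _)))
      hkf (hk ▸ dvd_mul_right _ _)
    rw [hk1, one_mul] at hk
    refine ⟨hk, eq_of_inner_ne_zero_of_deg (isCharacter_comp K.subtype (irr_isCharacter χ.2)) θ hθ ?_⟩
    show (χ : G → ℂ) ((1 : K) : G) = _
    rw [OneMemClass.coe_one, char_one_eq_deg (irr_isCharacter χ.2), hk, char_one_eq_deg (irr_isCharacter θ.2)]
  have hmemK : ∀ θ : IrrCharacter K, deg (θ : K → ℂ) ≠ 1 → deg (θ : K → ℂ) ∈ degSet G := fun θ hθ => by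
    obtain ⟨χ, hχ⟩ := exists_constituent_over K θ
    rw [← (hover θ χ hθ hχ).1]
    exact mem_degSet χ
  have hinv : ∀ θ : IrrCharacter K, deg (θ : K → ℂ) ≠ 1 → ∀ (g : G) (n : K),
      (θ : K → ℂ) (MulAut.conjNormal g n) = (θ : K → ℂ) n := fun θ hθ g n => by
    obtain ⟨χ, hχ⟩ := exists_constituent_over K θ
    have h := (hover θ χ hθ hχ).2
    rw [← congrFun h, ← congrFun h, MulAut.conjNormal_apply,
      isClassFunction_character (irr_isCharacter χ.2)]
  have hanti : ∀ θ θ' : IrrCharacter K, deg (θ : K → ℂ) ≠ 1 → deg (θ : K → ℂ) ∣ deg (θ' : K → ℂ) →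
      deg (θ' : K → ℂ) = deg (θ : K → ℂ) := fun θ θ' h hdvd =>
    eq_of_dvd hnd (hmemK θ h) (hmemK θ' fun e => h (Nat.dvd_one.1 (e ▸ hdvd))) h hdvd
  -- a third degree
  obtain ⟨d₀, hd₀, hd₀1, hd₀f⟩ : ∃ d ∈ degSet G, d ≠ 1 ∧ d ≠ f := by
    obtain ⟨q, hq, hqf⟩ := Nat.exists_prime_and_dvd hf1
    obtain ⟨d, hd, hd1, hqd⟩ := exists_not_dvd htwo hq
    exact ⟨d, hd, hd1, fun e => hqd (e ▸ hqf)⟩
  obtain ⟨χ₀, hχ₀⟩ := exists_of_mem_degSet hd₀
  obtain ⟨θ₀, hθ₀⟩ := hcons χ₀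
  have hθ₀1 : deg (θ₀ : K → ℂ) ≠ 1 := by
    intro h1
    obtain ⟨k, hk, hkf⟩ := deg_over K hθ₀
    rw [h1, mul_one, hχ₀] at hk
    exact hd₀f (eq_of_dvd hnd hd₀ hfmem hd₀1 (hk ▸ hkf)).symm
  -- all nonlinear degrees of the kernel agree
  have hall : ∀ θ : IrrCharacter K, deg (θ : K → ℂ) ≠ 1 → deg (θ : K → ℂ) = deg (θ₀ : K → ℂ) := by
    obtain ⟨Q, hQn, hQc, n, hn⟩ := Cfsg.Agent.S4456.result (G := K) p hp fun χ hχ => hpθ χ hχ
    haveI := hQn
    by_cases hQ : commutator K ≤ Q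
    swap
    · exact deg_eq_of_nonabelian_quotient hanti hp Q hQc hn hQ θ₀ hθ₀1
    -- the automorphism
    obtain ⟨r, hr, hrf⟩ := Nat.exists_prime_and_dvd hf1
    haveI := Fact.mk hr
    obtain ⟨y, hy⟩ := exists_prime_orderOf_dvd_card' (G := G ⧸ K) r (by rwa [← Subgroup.index_eq_card])
    obtain ⟨x, rfl⟩ := QuotientGroup.mk_surjective y
    obtain ⟨j, m, hm, hxm⟩ := Nat.exists_eq_pow_mul_and_not_dvd (orderOf_pos x).ne' r hr.ne_one
    set h := x ^ m with hh
    have hhj : h ^ r ^ j = 1 := by rw [hh, ← pow_mul, mul_comm, ← hxm, pow_orderOf_eq_one]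
    have hhr : h ^ r ∈ K := by
      rw [← QuotientGroup.eq_one_iff, hh, ← pow_mul, mul_comm, pow_mul, QuotientGroup.mk_pow,
        QuotientGroup.mk_pow, ← hy, pow_orderOf_eq_one, one_pow]
    have hhK : h ∉ K := fun hK' => hm (by
      rw [← QuotientGroup.eq_one_iff, hh, QuotientGroup.mk_pow, ← orderOf_dvd_iff_pow_eq_one, hy] at hK'
      exact hK')
    let α : MulAut K := MulAut.conjNormal h
    -- the moved element
    obtain ⟨z, hz, hzN⟩ := SetLike.not_le_iff_exists.1 hne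
    obtain ⟨i, m', hm', hzm⟩ := Nat.exists_eq_pow_mul_and_not_dvd (orderOf_pos z).ne' p hp.ne_one
    set g := z ^ m' with hg
    have hgK : g ∈ K := K.pow_mem hz m'
    have hgN : g ∉ N := fun hgN' => hzN (by
      rw [← QuotientGroup.eq_one_iff, hg, QuotientGroup.mk_pow] at hgN'
      have h2 : (z : G ⧸ N) ^ p = 1 := hexp _ hz
      have h3 := pow_gcd_eq_one.2 ⟨hgN', h2⟩
      rw [((Nat.Prime.coprime_iff_not_dvd hp).2 hm').symm.gcd_eq_one, pow_one] at h3
      exact (QuotientGroup.eq_one_iff z).1 h3)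
    have hmoved : ∀ w : K, (w : G) ∉ N → (α w * w⁻¹ : K).1 ∉ N ∧ Moved α w := by
      intro w hw
      have h1 : (α w * w⁻¹ : K).1 ∉ N := fun h' => hw (hfix h hhK _ w.2 (by
        simpa [α, MulAut.conjNormal_apply] using h'))
      refine ⟨h1, fun e => h1 ?_⟩
      have h2 : w⁻¹ * α w ∈ commutator K := of_eq_of_iff.1 e.symm
      have h3 : commutator K ≤ N.subgroupOf K := by
        rw [_root_.commutator, Subgroup.commutator_le]
        intro a _ b _
        exact hKN _ a.2 _ b.2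
      have h4 : α w * w⁻¹ ∈ N.subgroupOf K := by
        have h5 := (inferInstance : (N.subgroupOf K).Normal).conj_mem _ (h3 h2) w
        rwa [show w * (w⁻¹ * α w) * w⁻¹ = α w * w⁻¹ by group] at h5
      exact h4
    have hd : Data K α r := by
      refine ⟨hr, ⟨⟨h ^ r, hhr⟩, ?_⟩, ⟨j, ?_⟩, ?_, ?_, hanti, ⟨⟨g, hgK⟩, ?_, ?_, ?_⟩, ⟨θ₀, hθ₀1⟩⟩
      · show (MulAut.conjNormal h) ^ r = _
        rw [← map_pow]
        exact MulEquiv.ext fun n => Subtype.ext (MulAut.conjNormal_apply (h ^ r) n)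
      · show (MulAut.conjNormal h) ^ r ^ j = 1
        rw [← map_pow, hhj, map_one]
      · exact fun θ hθ => Subtype.ext (funext fun n => hinv θ hθ h n)
      · intro θ hθ hrd
        exact hr.ne_one (Nat.eq_one_of_dvd_coprimes (hcop _ (hmemK θ hθ) (hpθ θ hθ)) hrf hrd)
      · exact (hmoved _ hgN).2
      · refine Nat.Coprime.coprime_dvd_left (orderOf_dvd_of_pow_eq_one (n := p ^ i) ?_)
          ((Nat.Coprime.coprime_dvd_left (Subgroup.card_dvd_of_le hQ) hQc).symm.pow_left i)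
        exact Subtype.ext (show g ^ p ^ i = 1 by rw [hg, ← pow_mul, mul_comm, ← hzm, pow_orderOf_eq_one])
      · exact (hmoved _ (hmoved _ hgN).1).2
    haveI : Group.IsSolvable K := inferInstance
    exact fun θ hθ => hd.deg_eq θ θ₀ hθ hθ₀1
  -- conclusion
  have hset : degSet G = {1, f, deg (θ₀ : K → ℂ)} := by
    ext d
    simp only [Finset.mem_insert, Finset.mem_singleton]
    constructor
    · intro hd
      by_contra hno
      push Not at hno
      obtain ⟨χ, rfl⟩ := exists_of_mem_degSet hd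
      obtain ⟨θ, hθ⟩ := hcons χ
      by_cases h1 : deg (θ : K → ℂ) = 1
      · obtain ⟨k, hk, hkf⟩ := deg_over K hθ
        rw [h1, mul_one] at hk
        exact hno.2.1 (eq_of_dvd hnd hd hfmem hno.1 (hk ▸ hkf)).symm
      · exact hno.2.2 ((hover θ χ h1 hθ).1.trans (hall θ h1))
    · rintro (rfl | rfl | rfl)
      · exact one_mem_degSet
      · exact hfmem
      · exact hmemK θ₀ hθ₀1
  rw [hset, Finset.card_insert_of_notMem (by simp [Ne.symm hf1, Ne.symm hθ₀1]), Finset.card_pair]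
  exact fun e => hpf (e ▸ hpθ θ₀ hθ₀1)

end Cfsg.Agent.Char.TwoComp
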