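import Cfsg.Agent.Lib.Char.TwoCompDegrees.Central

/-!
# A noncentral second layer is impossible
-/

set_option autoImplicit false
set_option linter.unusedSectionVars false
set_option linter.style.haveILetI false

open scoped commutatorElement

namespace Cfsg.Agent.Char.TwoComp

open Cfsg

universe u
variable {K : Type u} [Group K] [Fintype K] {α : MulAut K} {r : ℕ} {C : Subgroup K}

/-- Sections inside the abelianisation inherit freeness. -/
theorem Common.free_sub [Group.IsSolvable K] (hC : Common α r C) (S : Sec K) (hS : S.L ≤ (secA K).L)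
    (hM : (secA K).M ≤ S.M) {y : K} (hy : y ∉ C) : S.Free y := by
  classical
  intro x hx hxM
  have hxR := hS hx
  let B := Set.range fun m : S.M => (secA K).cls ⟨m, hS (S.le m.2)⟩
  let D : B → B := fun b => ⟨(secA K).act y b.1 * b.1⁻¹, by
    obtain ⟨m, hm⟩ := b.2
    refine ⟨⟨y * m * y⁻¹ * (m : K)⁻¹, S.M.mul_mem (S.hM.conj_mem _ m.2 y) (S.M.inv_mem m.2)⟩, ?_⟩
    rw [← hm]
    rfl⟩
  have key : ∀ b b' : (secA K).X, (secA K).act y b * b⁻¹ = (secA K).act y b' * b'⁻¹ → b = b' := by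
    intro b b' e
    rw [← div_eq_mul_inv, ← div_eq_mul_inv] at e
    have h1 := (secA K).eq_one_of_free (hC.free hy) (b / b') (by
      rw [map_div]; exact div_eq_div_iff_div_eq_div.1 e)
    exact div_eq_one.1 h1
  have hinj : Function.Injective D := fun b b' e => Subtype.ext (key _ _ (congrArg Subtype.val e))
  obtain ⟨⟨_, m, rfl⟩, e⟩ := (Finite.injective_iff_surjective.1 hinj)
    ⟨(secA K).cls ⟨y * x * y⁻¹ * x⁻¹, hS (S.le hxM)⟩, ⟨⟨_, hxM⟩, rfl⟩⟩
  have h2 := key ((secA K).cls ⟨(m : K), hS (S.le m.2)⟩) ((secA K).cls ⟨x, hxR⟩) (congrArg Subtype.val e)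
  rw [(secA K).cls_eq] at h2
  have := S.M.mul_mem m.2 (hM h2)
  rwa [mul_inv_cancel_left] at this

theorem pow_prime_eq_one_of_minimal (S : Sec K) {q : ℕ} [Fact q.Prime] (hq : q ∣ Nat.card S.X)
    (hmin : ∀ N : Subgroup K, N.Normal → S.M ≤ N → N ≤ S.L → N ≠ S.M → N = S.L) (z : S.X) : z ^ q = 1 := by
  let N : Subgroup K :=
    { carrier := {x | ∃ h : x ∈ S.L, S.cls ⟨x, h⟩ ^ q = 1}
      one_mem' := ⟨S.L.one_mem, by rw [S.cls_eq_one.2 S.M.one_mem, one_pow]⟩
      mul_mem' := fun {a b} ⟨ha, ha'⟩ ⟨hb, hb'⟩ => ⟨S.L.mul_mem ha hb, by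
        show S.cls (⟨a, ha⟩ * ⟨b, hb⟩) ^ q = 1
        rw [S.cls_mul, mul_pow, ha', hb', one_mul]⟩
      inv_mem' := fun {a} ⟨ha, ha'⟩ => ⟨S.L.inv_mem ha, by
        show S.cls (⟨a, ha⟩⁻¹) ^ q = 1
        rw [S.cls_inv, inv_pow, ha', inv_one]⟩ }
  have hN : N = S.L := by
    refine hmin N ⟨fun x ⟨hx, hx'⟩ g => ⟨S.hL.conj_mem x hx g, ?_⟩⟩
      (fun x hx => ⟨S.le hx, by rw [S.cls_eq_one.2 hx, one_pow]⟩) (fun x hx => hx.1) fun e => ?_
    · rw [← S.act_cls g ⟨x, hx⟩, ← map_pow, hx', map_one]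
    · obtain ⟨w, hw⟩ := exists_prime_orderOf_dvd_card' (G := S.X) q hq
      obtain ⟨⟨x, hx⟩, rfl⟩ := S.cls_surjective w
      have h1 : x ∈ N := ⟨hx, by rw [← hw]; exact pow_orderOf_eq_one _⟩
      rw [e, ← S.cls_eq_one (x := ⟨x, hx⟩)] at h1
      rw [h1, orderOf_one] at hw
      exact (Fact.out : q.Prime).ne_one hw.symm
  obtain ⟨⟨x, hx⟩, rfl⟩ := S.cls_surjective z
  obtain ⟨h, hh⟩ := hN.ge hx
  exact hh

theorem prod_act_fixed {U X : Type u} [CommGroup U] [CommGroup X] (ψ : U →* MulAut X) {q : ℕ} (hq : 0 < q) {u : U}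
    (hu : u ^ q = 1) (x : X) : ψ u (∏ i ∈ Finset.range q, ψ (u ^ i) x) = ∏ i ∈ Finset.range q, ψ (u ^ i) x := by
  obtain ⟨n, rfl⟩ : ∃ n, q = n + 1 := ⟨q - 1, by omega⟩
  rw [map_prod, Finset.prod_range_succ, Finset.prod_range_succ' (fun i => ψ (u ^ i) x)]
  congr 1
  · refine Finset.prod_congr rfl fun i _ => ?_
    rw [← MulAut.mul_apply, ← map_mul, ← pow_succ']
  · rw [← MulAut.mul_apply, ← map_mul, ← pow_succ', hu, pow_zero]

/-- A coprime elementary abelian group of rank two has a nontrivial element with nontrivial fixed points. -/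
theorem exists_fixing {U X : Type u} [CommGroup U] [CommGroup X] [Finite U] [Finite X] {q : ℕ} [hq : Fact q.Prime]
    (ψ : U →* MulAut X) (hexp : ∀ u : U, u ^ q = 1) (hq2 : q < Nat.card U) (hcop : ¬ q ∣ Nat.card X)
    [Nontrivial X] : ∃ u : U, u ≠ 1 ∧ ∃ x : X, x ≠ 1 ∧ ψ u x = x := by
  classical
  by_contra hno
  push Not at hno
  have hπ : ∀ u : U, u ≠ 1 → ∀ x, ∏ i ∈ Finset.range q, ψ (u ^ i) x = 1 := fun u hu x => by
    by_contra h
    exact hno u hu _ h (prod_act_fixed ψ hq.out.pos (hexp u) x)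
  obtain ⟨x, hx⟩ := exists_ne (1 : X)
  haveI : Nontrivial U := Finite.one_lt_card_iff_nontrivial.1 (lt_trans hq.out.one_lt hq2)
  obtain ⟨b, hb⟩ := exists_ne (1 : U)
  obtain ⟨a, ha⟩ : ∃ a, a ∉ Subgroup.zpowers b := by
    by_contra hall
    push Not at hall
    have h1 : Nat.card U ≤ q := by
      rw [← Subgroup.card_top, ← (Subgroup.eq_top_iff' _).2 hall, Nat.card_zpowers]
      exact Nat.le_of_dvd hq.out.pos (orderOf_dvd_of_pow_eq_one (hexp b))
    omega
  have hne : ∀ i : ℕ, a * b ^ i ≠ 1 := fun i e => ha (by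
    rw [eq_inv_of_mul_eq_one_left e]
    exact Subgroup.inv_mem _ (Subgroup.pow_mem _ (Subgroup.mem_zpowers b) i))
  have h2 : ∏ i ∈ Finset.range q, ∏ j ∈ Finset.range q, ψ ((a * b ^ i) ^ j) x = 1 :=
    Finset.prod_eq_one fun i _ => hπ _ (hne i) x
  rw [Finset.prod_comm, Finset.prod_eq_single 0] at h2
  · simp only [pow_zero, map_one, MulAut.one_apply, Finset.prod_const, Finset.card_range] at h2
    refine hcop ?_
    have h3 : orderOf x = q := orderOf_eq_prime h2 hx
    rw [← h3]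
    exact orderOf_dvd_natCard x
  · intro j hj hj0
    have : ∀ i, ψ ((a * b ^ i) ^ j) x = ψ (a ^ j) (ψ ((b ^ j) ^ i) x) := fun i => by
      rw [← MulAut.mul_apply, ← map_mul, mul_pow, ← pow_mul, ← pow_mul, mul_comm i j]
    rw [Finset.prod_congr rfl fun i _ => this i, ← map_prod, hπ _ ?_ x, map_one]
    intro e
    have h4 : orderOf b = q := orderOf_eq_prime (hexp b) hb
    have := orderOf_dvd_of_pow_eq_one e
    rw [h4] at this
    exact absurd (Nat.le_of_dvd (Nat.pos_of_ne_zero hj0) this) (by have := Finset.mem_range.1 hj; omega)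
  · intro h
    exact absurd (Finset.mem_range.2 hq.out.pos) h

/-- Product over a subgroup. -/
noncomputable def proj {U X : Type u} [CommGroup U] [CommGroup X] [Finite U] (ψ : U →* MulAut X) (H : Subgroup U) (x : X) :
    X := letI := Fintype.ofFinite H; ∏ u : H, ψ (u : U) x

theorem proj_fixed {U X : Type u} [CommGroup U] [CommGroup X] [Finite U] (ψ : U →* MulAut X) (H : Subgroup U)
    {x : X} (v : U) (hv : v ∈ H ∨ ψ v x = x) : ψ v (proj ψ H x) = proj ψ H x := by
  letI := Fintype.ofFinite H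
  unfold proj
  rw [map_prod]
  rcases hv with hv | hv
  · exact Fintype.prod_equiv (Equiv.mulLeft ⟨v, hv⟩) _ _ fun u => by
      rw [← MulAut.mul_apply, ← map_mul]; rfl
  · refine Fintype.prod_congr _ _ fun u => ?_
    rw [← MulAut.mul_apply, ← map_mul, mul_comm, map_mul, MulAut.mul_apply, hv]

/-- A noncentral irreducible layer below the derived subgroup is impossible. -/
theorem Common.no_noncentral [Group.IsSolvable K] (hC : Common α r C) (W : Sec K)
    (hWL : W.L = (secA K).M) (hne : ¬ W.L ≤ W.M)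
    (hirr : ∀ N : Subgroup K, N.Normal → W.M ≤ N → N ≤ W.L → N ≠ W.M → N = W.L)
    (hnc : ¬ (secA K).L ≤ W.act.ker) : False := by
  classical
  obtain ⟨q, a, hq, ha, hA, hqC, hr2⟩ := hC.exists_top_prime
  haveI := Fact.mk hq
  haveI : (secA K).L.Normal := (secA K).hL
  have hWR : W.L ≤ (secA K).L := hWL.le.trans (secA K).le
  have hWker : W.L ≤ W.act.ker := fun z hz => MonoidHom.mem_ker.2 (W.act_eq_one fun x hx => W.comm z hz x hx)
  set R₁ : Subgroup K := (secA K).L ⊓ W.act.ker with hR₁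
  have hR21 : (secA K).M ≤ R₁ := le_inf (secA K).le (hWL.ge.trans hWker)
  -- a minimal normal subgroup above the centraliser
  obtain ⟨L, hLmem, hLmin⟩ : ∃ L, (L.Normal ∧ R₁ < L ∧ L ≤ (secA K).L) ∧
      ∀ N : Subgroup K, N.Normal → R₁ < N → N ≤ L → N = L := by
    have hex : ∃ n, ∃ L : Subgroup K, (L.Normal ∧ R₁ < L ∧ L ≤ (secA K).L) ∧ Nat.card L = n :=
      ⟨_, _, ⟨(secA K).hL, lt_of_le_of_ne inf_le_left fun e => hnc (inf_eq_left.1 (hR₁.symm.trans e)), le_rfl⟩, rfl⟩
    obtain ⟨L, hL, hcard⟩ := Nat.find_spec hex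
    refine ⟨L, hL, fun N hN h1 h2 => Subgroup.eq_of_le_of_card_ge h2 ?_⟩
    rw [hcard]
    exact Nat.find_min' hex ⟨N, ⟨hN, h1, h2.trans hL.2.2⟩, rfl⟩
  obtain ⟨hLn, hR1L, hLR⟩ := hLmem
  obtain ⟨U, hUL, hUM⟩ : ∃ U : Sec K, U.L = L ∧ U.M = R₁ :=
    ⟨{ L := L, M := R₁, hL := hLn, hM := inferInstance, le := hR1L.le,
       comm := fun x hx y hy => hR21 ((secA K).comm x (hLR hx) y (hLR hy)) }, rfl, rfl⟩
  subst hUL
  have hR1U : R₁ < U.L := hR1L
  rw [← hUM] at hR1L hR21 hLmin
  have hUcent : ∀ c ∈ C, U.Cent c := fun c hc x hx => hR21 (hC.cent hc x (hLR hx))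
  have hUfree : ∀ y, y ∉ C → U.Free y := fun y hy => hC.free_sub U hLR hR21 hy
  have hUne : ¬ U.L ≤ U.M := hR1L.not_ge
  have hUdvd : Nat.card U.X ∣ q ^ a := by
    rw [← hA, U.card_X, (secA K).card_X]
    refine (Subgroup.relIndex_dvd_of_le_left U.L hR21).trans ?_
    exact Dvd.intro _ (Subgroup.relIndex_mul_relIndex _ _ _ (hR21.trans hR1L.le) hLR)
  obtain ⟨b, -, hUcard⟩ := (Nat.dvd_prime_pow hq).1 hUdvd
  haveI := U.nontrivial_X hUne
  have hb : b ≠ 0 := fun h => by
    have := Finite.one_lt_card (α := U.X)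
    rw [hUcard, h, pow_zero] at this
    omega
  obtain ⟨hb1, hbound⟩ := hC.count_bound U hLR hUcent hUfree hq hUcard hb
  have hUq : q ∣ Nat.card U.X := hUcard ▸ dvd_pow_self q hb
  have hexp : ∀ u : U.X, u ^ q = 1 := pow_prime_eq_one_of_minimal U hUq fun N hN h1 h2 h3 =>
    hLmin N hN (lt_of_le_of_ne h1 h3.symm) h2
  have hLW : ¬ U.L ≤ W.act.ker := fun h => hR1U.not_ge (le_inf hLR h)
  -- the action of the top section on the layer
  have hker : U.M.subgroupOf U.L ≤ (W.act.comp U.L.subtype).ker := fun z hz =>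
    MonoidHom.mem_ker.2 (MonoidHom.mem_ker.1 (Subgroup.mem_inf.1 (show (z : K) ∈ R₁ from hUM ▸ hz)).2)
  let ψ : U.X →* MulAut W.X := QuotientGroup.lift _ (W.act.comp U.L.subtype) hker
  have hψ : ∀ z : U.L, ψ (U.cls z) = W.act z := fun z => rfl
  have hnofix : ∀ x : W.X, (∀ u, ψ u x = x) → x = 1 := by
    intro x hx
    let N : Subgroup K :=
      { carrier := {v | ∃ h : v ∈ W.L, ∀ u, ψ u (W.cls ⟨v, h⟩) = W.cls ⟨v, h⟩}
        one_mem' := ⟨W.L.one_mem, fun u => by rw [W.cls_eq_one.2 W.M.one_mem, map_one]⟩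
        mul_mem' := fun {v v'} ⟨hv, h⟩ ⟨hv', h'⟩ => ⟨W.L.mul_mem hv hv', fun u => by
          show ψ u (W.cls (⟨v, hv⟩ * ⟨v', hv'⟩)) = W.cls (⟨v, hv⟩ * ⟨v', hv'⟩)
          rw [W.cls_mul, map_mul, h, h']⟩
        inv_mem' := fun {v} ⟨hv, h⟩ => ⟨W.L.inv_mem hv, fun u => by
          show ψ u (W.cls ⟨v, hv⟩⁻¹) = W.cls ⟨v, hv⟩⁻¹
          rw [W.cls_inv, map_inv, h]⟩ }
    have hNn : N.Normal := ⟨fun v ⟨hv, h⟩ g => ⟨W.hL.conj_mem v hv g, fun u => by
      obtain ⟨⟨z, hz⟩, rfl⟩ := U.cls_surjective u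
      rw [← W.act_cls g ⟨v, hv⟩, hψ, ← MulAut.mul_apply, ← map_mul,
        show z * g = g * (g⁻¹ * z * g) by group, map_mul, MulAut.mul_apply]
      congr 1
      exact h (U.cls ⟨g⁻¹ * z * g, by simpa using hLn.conj_mem z hz g⁻¹⟩)⟩⟩
    by_contra hx1
    obtain ⟨⟨v, hv⟩, rfl⟩ := W.cls_surjective x
    have hN := hirr N hNn (fun w hw => ⟨W.le hw, fun u => by rw [W.cls_eq_one.2 hw, map_one]⟩)
      (fun w hw => hw.1) fun e => hx1 (W.cls_eq_one.2 (e ▸ (show v ∈ N from ⟨hv, hx⟩)))
    refine hLW fun z hz => MonoidHom.mem_ker.2 (MulEquiv.ext fun y => ?_)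
    obtain ⟨⟨w, hw⟩, rfl⟩ := W.cls_surjective y
    obtain ⟨_, hall⟩ := hN.ge hw
    rw [MulAut.one_apply]
    exact hall (U.cls ⟨z, hz⟩)
  haveI := W.nontrivial_X hne
  -- coprimality
  have hqW : ¬ q ∣ Nat.card W.X := by
    intro hdvd
    letI : MulAction U.X W.X := MulAction.compHom W.X ψ
    obtain ⟨x, hx, hx1⟩ := (IsPGroup.of_card hUcard).exists_fixed_point_of_prime_dvd_card_of_fixed_point W.X hdvd
      (a := (1 : W.X)) fun u => map_one (ψ u)
    exact hx1 (hnofix x fun u => hx u).symm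
  -- the prime is not `r`
  have hrq : r ≠ q := by
    intro hrq
    refine hLW fun z hz => MonoidHom.mem_ker.2 (MulEquiv.ext fun y => ?_)
    rw [MulAut.one_apply]
    by_contra hy
    obtain ⟨f₀, hf₀⟩ := W.exists_hom_ne_one (z := W.act z y * y⁻¹) (mt mul_inv_eq_one.1 hy)
    haveI := Fintype.ofFinite W.L
    let f : W.L →* ℂˣ := f₀.comp W.clsHom
    have hf : f ≠ 1 := fun e => hf₀ (by
      obtain ⟨x, hx⟩ := W.cls_surjective (W.act z y * y⁻¹)
      rw [← hx]
      exact DFunLike.congr_fun e x)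
    obtain ⟨χ, hχ⟩ := exists_constituent_over W.L ⟨_, isIrrCharacter_linear f⟩
    have hdeg1 := deg_ne_one_over W.L hWR hf χ hχ
    obtain ⟨T, η, e, hWT, hη, hind, -, hT, -, -⟩ := exists_correspondent χ.2 W.L ⟨_, isIrrCharacter_linear f⟩ hχ
    haveI := Fintype.ofFinite T
    have hdeg : deg (χ : K → ℂ) = T.index * deg η := Nat.cast_injective (R := ℂ) (by
      rw [← char_one_eq_deg (irr_isCharacter χ.2), hind, indFun_one, char_one_eq_deg (irr_isCharacter hη),
        Nat.cast_mul])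
    have hTf : ∀ g, g ∈ T ↔ ∀ x, f (MulAut.conjNormal g x) = f x := fun g => (hT g).trans
      ⟨fun e x => Units.ext (congrFun (congrArg Subtype.val e) x),
        fun e => Subtype.ext (funext fun x => congrArg Units.val (e x))⟩
    have hR1T : U.M ≤ T := fun g hg' => (hTf g).2 fun x => by
      have hg : g ∈ R₁ := hUM ▸ hg'
      have h1 : W.act g (W.cls x) = W.cls x := by
        rw [MonoidHom.mem_ker.1 (Subgroup.mem_inf.1 hg).2, MulAut.one_apply]
      exact congrArg f₀ h1
    have hrT : ¬ r ∣ T.index := fun h => hC.data.cop χ hdeg1 (hdeg ▸ h.trans (dvd_mul_right _ _))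
    have hrel : T.relIndex U.L ∣ T.index := by
      have h1 : (T ⊔ U.L).index * (T.relIndex U.L * (U.L.relIndex T)) = T.index * U.L.relIndex T := by
        have e1 := Subgroup.inf_relIndex_right T U.L
        have e2 := Subgroup.inf_relIndex_left T U.L
        have e3 := Subgroup.relIndex_mul_index (H := T ⊓ U.L) (K := T) inf_le_left
        have e4 := Subgroup.relIndex_mul_index (H := T ⊓ U.L) (K := U.L) inf_le_right
        have e5 := Subgroup.relIndex_mul_index (H := U.L) (K := T ⊔ U.L) le_sup_right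
        have e6 := Subgroup.relIndex_sup_right (H := T) (K := U.L)
        rw [← e2, mul_comm T.index, e3, ← e4, e1, ← e5, e6, e2]
        ring
      refine Dvd.intro_left _ (Nat.eq_of_mul_eq_mul_right (Nat.pos_of_ne_zero ?_) ((mul_assoc _ _ _).trans h1))
      exact Subgroup.index_ne_zero_of_finite
    have hqT : T.relIndex U.L ∣ q ^ b := hUcard ▸ (U.card_X ▸ Subgroup.relIndex_dvd_of_le_left U.L hR1T)
    obtain ⟨i, -, hi⟩ := (Nat.dvd_prime_pow hq).1 hqT
    have hi0 : i = 0 := by_contra fun h => hrT (hrq ▸ ((dvd_pow_self q h).trans (hi ▸ hrel)))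
    have hLT : U.L ≤ T := Subgroup.relIndex_eq_one.1 (by rw [hi, hi0, pow_zero])
    obtain ⟨x, rfl⟩ := W.cls_surjective y
    refine hf₀ ?_
    rw [map_mul, map_inv, mul_inv_eq_one]
    exact (hTf z).1 (hLT hz) x
  have hr_odd : Odd r := hC.data.prime.odd_of_ne_two fun h2 => hrq (h2.trans (hr2 h2).symm)
  -- an element with fixed points
  have hq2 : q < Nat.card U.X := by
    rw [hUcard]
    calc q = q ^ 1 := (pow_one q).symm
      _ < q ^ b := Nat.pow_lt_pow_right hq.one_lt (lt_of_le_of_ne (Nat.pos_of_ne_zero hb) fun h => hb1 h.symm)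
  obtain ⟨u₀, hu₀, x₀, hx₀, hfix₀⟩ := exists_fixing ψ hexp hq2 hqW
  let st : W.X → Subgroup U.X := fun x =>
    { carrier := {u | ψ u x = x}
      one_mem' := by show ψ 1 x = x; rw [map_one, MulAut.one_apply]
      mul_mem' := fun {v v'} hv hv' => by show ψ (v * v') x = x; rw [map_mul, MulAut.mul_apply, hv', hv]
      inv_mem' := fun {v} hv => by
        show ψ v⁻¹ x = x
        nth_rw 1 [← (show ψ v x = x from hv)]
        rw [map_inv, MulAut.inv_apply_self] }
  haveI := Fintype.ofFinite W.X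
  obtain ⟨w, hw, hwmax⟩ := Finset.exists_max_image (Finset.univ.filter fun x : W.X => x ≠ 1)
    (fun x => Nat.card (st x)) ⟨x₀, Finset.mem_filter.2 ⟨Finset.mem_univ _, hx₀⟩⟩
  have hw1 : w ≠ 1 := (Finset.mem_filter.1 hw).2
  set H := st w with hH
  have hHne : H ≠ ⊥ := fun e => by
    have h1 : 1 < Nat.card (st x₀) := (Subgroup.one_lt_card_iff_ne_bot _).2 fun e' =>
      hu₀ (Subgroup.mem_bot.1 (e' ▸ (show u₀ ∈ st x₀ from hfix₀)))
    have h2 := hwmax x₀ (Finset.mem_filter.2 ⟨Finset.mem_univ _, hx₀⟩)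
    rw [show H = ⊥ from e, Subgroup.card_bot] at h2
    omega
  have hHtop : H ≠ ⊤ := fun e => hw1 (hnofix w fun u => (show u ∈ H from e ▸ Subgroup.mem_top u))
  have hHcard : Nat.card H < Nat.card U.X := lt_of_le_of_ne (Subgroup.card_le_card_group H)
    fun e => hHtop (Subgroup.eq_top_of_card_eq H e)
  have hcompat : ∀ (y : K) u x, W.act y (ψ u x) = ψ (U.act y u) (W.act y x) := by
    intro y u x
    obtain ⟨z, rfl⟩ := U.cls_surjective u
    rw [U.act_cls, hψ, hψ, ← MulAut.mul_apply, ← MulAut.mul_apply, ← map_mul, ← map_mul]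
    simp [mul_assoc]
  have hstact : ∀ (y : K) x, st (W.act y x) = (st x).map (U.act y).toMonoidHom := by
    intro y x
    ext u
    obtain ⟨u, rfl⟩ := (U.act y).surjective u
    rw [Subgroup.mem_map_equiv, MulEquiv.symm_apply_apply]
    show ψ _ (W.act y x) = W.act y x ↔ ψ u x = x
    rw [← hcompat]
    exact (W.act y).injective.eq_iff
  -- the twisted automorphism fixing `w`
  let τW : MulAut W.X := W.autX α (hC.data.mem_iff W.hL hWR) (hC.data.mem_iff W.hM (W.le.trans hWR))
  let τU : MulAut U.X := U.autX α (hC.data.mem_iff U.hL hLR) (hC.data.mem_iff U.hM (U.le.trans hLR))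
  have hτ : ∀ u x, τW (ψ u x) = ψ (τU u) (τW x) := by
    intro u x
    obtain ⟨z, rfl⟩ := U.cls_surjective u
    obtain ⟨v, rfl⟩ := W.cls_surjective x
    rw [hψ, W.act_cls, Sec.autX_cls, Sec.autX_cls, Sec.autX_cls, hψ, W.act_cls]
    exact congrArg W.cls (Subtype.ext (by simp))
  have hτact : ∀ (y : K) x, τW (W.act y x) = W.act (α y) (τW x) := by
    intro y x
    obtain ⟨v, rfl⟩ := W.cls_surjective x
    rw [W.act_cls, Sec.autX_cls, Sec.autX_cls, W.act_cls]
    exact congrArg W.cls (Subtype.ext (by simp))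
  have horb : ∀ x, ∃ k, τW x = W.act k x := by
    intro x
    obtain ⟨v, rfl⟩ := W.cls_surjective x
    obtain ⟨k, hk⟩ := hC.data.stable (hWR v.2)
    refine ⟨k, ?_⟩
    rw [W.act_cls, Sec.autX_cls]
    exact congrArg W.cls (Subtype.ext hk)
  obtain ⟨k, hk⟩ := horb w
  let θW : MulAut W.X := W.act k⁻¹ * τW
  let θU : MulAut U.X := U.act k⁻¹ * τU
  have hθw : θW w = w := by
    show W.act k⁻¹ (τW w) = w
    rw [hk, map_inv, MulAut.inv_apply_self]
  have hθ : ∀ u x, θW (ψ u x) = ψ (θU u) (θW x) := fun u x => by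
    show W.act k⁻¹ (τW _) = ψ (U.act k⁻¹ (τU u)) (W.act k⁻¹ (τW x))
    rw [hτ, hcompat]
  have hθst : ∀ x, st (θW x) = (st x).map θU.toMonoidHom := by
    intro x
    ext u
    obtain ⟨u, rfl⟩ := θU.surjective u
    rw [Subgroup.mem_map_equiv, MulEquiv.symm_apply_apply]
    show ψ _ (θW x) = θW x ↔ ψ u x = x
    rw [← hθ]
    exact θW.injective.eq_iff
  have hθH : H.map θU.toMonoidHom = H := by rw [hH, ← hθst, hθw]
  have hmax : ∀ x, x ≠ 1 → H.map θU.toMonoidHom = H → Nat.card (st x) ≤ Nat.card H := fun x hx _ =>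
    hwmax x (Finset.mem_filter.2 ⟨Finset.mem_univ _, hx⟩)
  -- projections
  have hproj0 : ∀ (H₁ : Subgroup U.X) x, Nat.card (st x) = Nat.card H → ¬ H₁ ≤ st x → proj ψ H₁ x = 1 := by
    intro H₁ x hx hne'
    by_contra h1
    obtain ⟨v, hv, hvx⟩ := SetLike.not_le_iff_exists.1 hne'
    have hlt : st x < st (proj ψ H₁ x) := lt_of_le_not_ge (fun u hu => proj_fixed ψ H₁ u (Or.inr hu))
      fun h => hvx (h (proj_fixed ψ H₁ v (Or.inl hv)))
    have h2 := hmax _ h1 hθH
    have h3 : Nat.card (st x) < Nat.card (st (proj ψ H₁ x)) :=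
      lt_of_le_of_ne (Subgroup.card_le_of_le hlt.le) fun e => hlt.ne (Subgroup.eq_of_le_of_card_ge hlt.le e.ge)
    omega
  have hproj1 : ∀ x, x ≠ 1 → proj ψ (st x) x ≠ 1 := by
    intro x hx e
    letI := Fintype.ofFinite (st x)
    have h1 : proj ψ (st x) x = x ^ Nat.card (st x) := by
      unfold proj
      rw [Finset.prod_congr rfl (fun (u : st x) _ => (show ψ (u : U.X) x = x from u.2)), Finset.prod_const,
        Finset.card_univ, Nat.card_eq_fintype_card]
    have hco : (Nat.card W.X).Coprime (Nat.card (st x)) := by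
      obtain ⟨i, -, hi⟩ := (Nat.dvd_prime_pow hq).1 (hUcard ▸ Subgroup.card_subgroup_dvd_card (st x))
      rw [hi]
      exact (((Nat.Prime.coprime_iff_not_dvd hq).2 hqW).pow_left i).symm
    rw [h1] at e
    exact hx ((powCoprime hco).injective (show x ^ _ = 1 ^ _ by rw [e, one_pow]))
  have hprojmul : ∀ (H₁ : Subgroup U.X) x y, proj ψ H₁ (x * y) = proj ψ H₁ x * proj ψ H₁ y := by
    intro H₁ x y
    unfold proj
    rw [← Finset.prod_mul_distrib]
    exact Finset.prod_congr rfl fun u _ => map_mul _ _ _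
  -- the stabiliser of `H` in the group
  let J : Subgroup K :=
    { carrier := {y | H.map (U.act y).toMonoidHom = H}
      one_mem' := by
        show H.map (U.act 1).toMonoidHom = H
        rw [map_one]
        exact Subgroup.map_id H
      mul_mem' := fun {y y'} hy hy' => by
        show H.map (U.act (y * y')).toMonoidHom = H
        rw [map_mul, show (U.act y * U.act y').toMonoidHom = (U.act y).toMonoidHom.comp (U.act y').toMonoidHom from rfl,
          ← Subgroup.map_map, hy', hy]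
      inv_mem' := fun {y} hy => by
        show H.map (U.act y⁻¹).toMonoidHom = H
        conv_lhs => rw [← (show H.map (U.act y).toMonoidHom = H from hy), Subgroup.map_map]
        rw [show (U.act y⁻¹).toMonoidHom.comp (U.act y).toMonoidHom = MonoidHom.id _ from MonoidHom.ext fun u => by
          show U.act y⁻¹ (U.act y u) = u
          rw [map_inv, MulAut.inv_apply_self]]
        exact Subgroup.map_id H }
  have hCJ : C ≤ J := fun c hc => by
    show H.map (U.act c).toMonoidHom = H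
    rw [U.act_eq_one (hUcent c hc)]
    exact Subgroup.map_id H
  haveI hJn : J.Normal := ⟨fun y hy g => by
    rw [show g * y * g⁻¹ = g * y * g⁻¹ * y⁻¹ * y by group]
    exact J.mul_mem (hCJ (hC.le (comm_mem g y))) hy⟩
  have hcomm : ∀ y y' : K, U.act y * U.act y' = U.act y' * U.act y := fun y y' => by
    rw [← map_mul, ← map_mul, show y * y' = y * y' * y⁻¹ * y'⁻¹ * (y' * y) by group, map_mul,
      U.act_eq_one (hUcent _ (hC.le (comm_mem y y'))), one_mul]
  have hsame : ∀ y y' : K, H.map (U.act y).toMonoidHom = H.map (U.act y').toMonoidHom → y'⁻¹ * y ∈ J := by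
    intro y y' e
    show H.map (U.act (y'⁻¹ * y)).toMonoidHom = H
    rw [map_mul, show (U.act y'⁻¹ * U.act y).toMonoidHom = (U.act y'⁻¹).toMonoidHom.comp (U.act y).toMonoidHom from rfl,
      ← Subgroup.map_map, e, Subgroup.map_map, ← show (U.act y'⁻¹ * U.act y').toMonoidHom =
        (U.act y'⁻¹).toMonoidHom.comp (U.act y').toMonoidHom from rfl, ← map_mul, inv_mul_cancel, map_one]
    exact Subgroup.map_id H
  have hcardst : ∀ y : K, Nat.card (st (W.act y w)) = Nat.card H := fun y => by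
    rw [hstact]
    exact Nat.card_congr (H.equivMapOfInjective _ (MulEquiv.injective _)).symm.toEquiv
  have hne1 : ∀ y : K, W.act y w ≠ 1 := fun y e => hw1 ((W.act y).map_eq_one_iff.1 e)
  have hnle : ∀ H₁ H₂ : Subgroup U.X, Nat.card H₂ = Nat.card H₁ → H₁ ≤ H₂ → H₁ = H₂ := fun H₁ H₂ hc h =>
    Subgroup.eq_of_le_of_card_ge h hc.le
  -- the dichotomy
  have hdich : ∀ y : K, y⁻¹ * α y ∈ J ∨ y * α y ∈ J := by
    intro y
    have hαy : θW (W.act y w) = W.act (k⁻¹ * α y * k) w := by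
      show W.act k⁻¹ (τW _) = _
      rw [hτact, hk, map_mul, map_mul, MulAut.mul_apply, MulAut.mul_apply]
    have hconj : U.act (k⁻¹ * α y * k) = U.act (α y) := by
      rw [map_mul, map_mul, hcomm k⁻¹ (α y), mul_assoc, ← map_mul, inv_mul_cancel, map_one, mul_one]
    have hstb : st (θW (W.act y w)) = H.map (U.act (α y)).toMonoidHom := by rw [hαy, hstact, hconj]
    by_cases hyJ : y ∈ J
    · left
      have : H.map (U.act (α y)).toMonoidHom = H := by
        rw [← hstb, hθst, hstact, show (st w).map (U.act y).toMonoidHom = H from hyJ, hθH]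
      exact J.mul_mem (J.inv_mem hyJ) this
    have hya : st (W.act y w) ≠ H := fun e => hyJ (show H.map (U.act y).toMonoidHom = H by rw [hH, ← hstact]; exact e)
    have hb' : st (θW (W.act y w)) ≠ H := fun e => hya (by
      rw [hθst] at e
      exact Subgroup.map_injective (MulEquiv.injective θU) (e.trans hθH.symm))
    obtain ⟨m, hm⟩ := horb (w * W.act y w)
    have hv : w * θW (W.act y w) = W.act (k⁻¹ * m) w * W.act (k⁻¹ * m * y) w := by
      nth_rw 1 [← hθw]
      rw [← map_mul]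
      show W.act k⁻¹ (τW _) = _
      rw [hm, map_mul (W.act m), map_mul (W.act k⁻¹), map_mul W.act k⁻¹ m, map_mul W.act (k⁻¹ * m) y,
        map_mul W.act k⁻¹ m]
      rfl
    set n := k⁻¹ * m with hn
    have hcb : Nat.card (st (θW (W.act y w))) = Nat.card H := by rw [hαy]; exact hcardst _
    have hπ := congrArg (proj ψ H) hv
    rw [hprojmul, hprojmul, hproj0 H (θW (W.act y w)) hcb (fun h => hb' (hnle _ _ hcb h).symm), mul_one] at hπ
    have hcase : st (W.act n w) = H ∨ st (W.act (n * y) w) = H := by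
      by_contra hno
      push Not at hno
      rw [hproj0 H _ (hcardst n) (fun h => hno.1 (hnle _ _ (hcardst n) h).symm),
        hproj0 H _ (hcardst _) (fun h => hno.2 (hnle _ _ (hcardst _) h).symm), mul_one] at hπ
      exact hproj1 w hw1 hπ
    rcases hcase with hc | hc
    · -- the first point stays
      left
      have hcn : st (W.act (n * y) w) = st (W.act y w) := by
        rw [hstact, hstact, map_mul, hcomm, show (U.act y * U.act n).toMonoidHom =
          (U.act y).toMonoidHom.comp (U.act n).toMonoidHom from rfl, ← Subgroup.map_map, ← hstact n w, hc]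
      have hπ' := congrArg (proj ψ (st (W.act y w))) hv
      have hsw : st w = H := rfl
      rw [hprojmul, hprojmul, hproj0 _ w rfl (fun h => hya (hnle _ _ (hcardst y).symm h)),
        hproj0 _ (W.act n w) (hcardst n) (fun h => hya ((hnle _ _ (by rw [hcardst y, hcardst n]) h).trans hc)),
        one_mul, one_mul] at hπ'
      have heq : st (θW (W.act y w)) = st (W.act y w) := by
        by_contra hne'
        rw [hproj0 _ _ hcb (fun h => hne' (hnle _ _ (by rw [hcardst y, hcb]) h).symm), ← hcn] at hπ'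
        exact hproj1 _ (hne1 _) hπ'.symm
      rw [hstb, hstact] at heq
      exact hsame _ _ heq
    · -- the points are interchanged
      right
      have hnJ : st (W.act n w) ≠ H := fun e => hyJ (by
        have h1 : n ∈ J := by show H.map _ = H; rwa [hstact] at e
        have h2 : n * y ∈ J := by show H.map _ = H; rwa [hstact] at hc
        have := J.mul_mem (J.inv_mem h1) h2
        rwa [inv_mul_cancel_left] at this)
      have hπ' := congrArg (proj ψ (st (W.act n w))) hv
      rw [hprojmul, hprojmul, hproj0 _ w rfl (fun h => hnJ (hnle _ _ (hcardst n).symm h)),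
        hproj0 _ (W.act (n * y) w) (hcardst _) (fun h => hnJ ((hnle _ _ (by rw [hcardst n, hcardst (n * y)]) h).trans hc)),
        one_mul, mul_one] at hπ'
      have heq : st (θW (W.act y w)) = st (W.act n w) := by
        by_contra hne'
        rw [hproj0 _ _ hcb (fun h => hne' (hnle _ _ (by rw [hcardst n, hcb]) h).symm)] at hπ'
        exact hproj1 _ (hne1 _) hπ'.symm
      rw [hstb, hstact] at heq
      have h1 := hsame _ _ heq
      have h2 : n * y ∈ J := by show H.map _ = H; rwa [hstact] at hc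
      have h3 := J.mul_mem h2 h1
      have h4 : (n * y) * (n⁻¹ * α y) = (n * y * n⁻¹ * y⁻¹) * (y * α y) := by group
      rw [h4] at h3
      have := J.mul_mem (J.inv_mem (hCJ (hC.le (comm_mem n y)))) h3
      rwa [inv_mul_cancel_left] at this
  -- odd order of the automorphism
  let φ : K →* K ⧸ J := QuotientGroup.mk' J
  have hφker : ∀ y, φ y = 1 ↔ y ∈ J := fun y => QuotientGroup.eq_one_iff y
  have hαJ : ∀ y, y ∈ J → α y ∈ J := by
    intro y hy
    rcases hdich y with h | h
    · simpa using J.mul_mem hy h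
    · simpa using J.mul_mem (J.inv_mem hy) h
  have hsq : ∀ y, φ (α (α y)) = φ y := by
    intro y
    rcases hdich y with h | h
    · have h1 := (hφker _).2 h
      have h2 := (hφker _).2 (hαJ _ h)
      rw [map_mul, map_mul, map_inv, map_inv, inv_mul_eq_one] at h2
      rw [map_mul, map_inv, inv_mul_eq_one] at h1
      rw [← h2, ← h1]
    · have h1 := (hφker _).2 h
      have h2 := (hφker _).2 (hαJ _ h)
      rw [map_mul, map_mul, mul_eq_one_iff_inv_eq] at h2
      rw [map_mul, mul_eq_one_iff_eq_inv] at h1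
      rw [← h2, h1]
  have hdiff : ∀ y, y * (α y)⁻¹ ∈ J := by
    intro y
    obtain ⟨c, hc, he⟩ := hC.inner_mem
    obtain ⟨m, hm⟩ := hr_odd
    have hit : ∀ i : ℕ, φ ((α ^ (2 * i + 1)) y) = φ (α y) := by
      intro i
      induction i with
      | zero => simp
      | succ i ih =>
        rw [show 2 * (i + 1) + 1 = 2 + (2 * i + 1) by ring, pow_add, MulAut.mul_apply, pow_two, MulAut.mul_apply,
          hsq, ih]
    have h1 := hit m
    rw [← hm, he, MulAut.conj_apply, map_mul, map_mul, (hφker c).2 (hCJ hc), map_inv, (hφker c).2 (hCJ hc),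
      inv_one, one_mul, mul_one] at h1
    rw [← hφker, map_mul, map_inv, ← h1, mul_inv_cancel]
  have hTJ : comT α C ≤ J := sup_le hCJ ((Subgroup.closure_le _).2 (by rintro _ ⟨v, rfl⟩; exact hdiff v))
  -- the count
  let actH : comT α C →* MulAut H := restrictAct (U.act.comp (comT α C).subtype) H fun t x hx => by
    rw [← (show H.map (U.act (t : K)).toMonoidHom = H from hTJ t.2)]
    exact ⟨x, hx, rfl⟩
  refine hbound (Nat.card H) (Subgroup.card_subgroup_dvd_card H) ((Subgroup.one_lt_card_iff_ne_bot H).2 hHne)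
    hHcard (hC.sNum_dvd actH fun x hx t ht => ?_)
  by_contra htC
  exact hx (Subtype.ext (U.eq_one_of_free (hUfree _ htC) x (congrArg Subtype.val ht)))

end Cfsg.Agent.Char.TwoComp
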