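import Cfsg.Agent.Lib.Char.TwoCompDegrees.Fixed
import Cfsg.Agent.Lib.Char.TwoCompDegrees.Count

/-!
# Normal sections below the derived subgroup
-/

set_option autoImplicit false
set_option linter.unusedSectionVars false

namespace Cfsg.Agent.Char.TwoComp

universe u
variable {K : Type u} [Group K]

/-- An abelian normal section. -/
structure Sec (K : Type u) [Group K] where
  L : Subgroup K
  M : Subgroup K
  hL : L.Normal
  hM : M.Normal
  le : M ≤ L
  comm : ∀ a ∈ L, ∀ b ∈ L, a * b * a⁻¹ * b⁻¹ ∈ M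

theorem conj_mem_iff {N : Subgroup K} (hN : N.Normal) (k x : K) : MulAut.conj k x ∈ N ↔ x ∈ N :=
  ⟨fun h => by simpa [MulAut.conj_apply, mul_assoc] using hN.conj_mem _ h k⁻¹,
    fun h => hN.conj_mem x h k⟩

namespace Sec

variable (S : Sec K)

instance : S.L.Normal := S.hL
instance : S.M.Normal := S.hM
instance : (S.M.subgroupOf S.L).Normal := Subgroup.Normal.comap inferInstance _

/-- The underlying group. -/
abbrev X : Type u := S.L ⧸ S.M.subgroupOf S.L

/-- The class of an element. -/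
def cls (x : S.L) : S.X := QuotientGroup.mk x

theorem cls_surjective : Function.Surjective S.cls := QuotientGroup.mk_surjective

theorem cls_eq_one {x : S.L} : S.cls x = 1 ↔ (x : K) ∈ S.M :=
  (QuotientGroup.eq_one_iff x).trans Subgroup.mem_subgroupOf

theorem cls_eq {x y : S.L} : S.cls x = S.cls y ↔ (x : K)⁻¹ * y ∈ S.M :=
  QuotientGroup.eq.trans Subgroup.mem_subgroupOf

theorem cls_mul (x y : S.L) : S.cls (x * y) = S.cls x * S.cls y := rfl

theorem cls_inv (x : S.L) : S.cls x⁻¹ = (S.cls x)⁻¹ := rfl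

/-- The quotient map. -/
def clsHom : S.L →* S.X := QuotientGroup.mk' _

theorem clsHom_apply (x : S.L) : S.clsHom x = S.cls x := rfl

instance : CommGroup S.X :=
  { (inferInstance : Group S.X) with
    mul_comm := fun a b => by
      obtain ⟨x, rfl⟩ := S.cls_surjective a
      obtain ⟨y, rfl⟩ := S.cls_surjective b
      show S.cls (x * y) = S.cls (y * x)
      rw [cls_eq, Subgroup.coe_mul, Subgroup.coe_mul, mul_inv_rev]
      have h := S.comm _ (S.L.inv_mem y.2) _ (S.L.inv_mem x.2)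
      rw [inv_inv, inv_inv] at h
      simpa [mul_assoc] using h }

theorem card_X : Nat.card S.X = S.M.relIndex S.L := (Subgroup.index_eq_card _).symm

theorem nontrivial_X (h : ¬ S.L ≤ S.M) : Nontrivial S.X := by
  obtain ⟨x, hx, hxM⟩ := SetLike.not_le_iff_exists.1 h
  exact ⟨⟨S.cls ⟨x, hx⟩, 1, fun e => hxM (S.cls_eq_one.1 e)⟩⟩

/-- The map induced by an automorphism preserving both subgroups. -/
def autX (β : MulAut K) (h1 : ∀ x, x ∈ S.L ↔ β x ∈ S.L) (h2 : ∀ x, x ∈ S.M ↔ β x ∈ S.M) : MulAut S.X :=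
  QuotientGroup.congr _ _
    ({ toFun := fun x => ⟨β x, (h1 x).1 x.2⟩
       invFun := fun x => ⟨β.symm x, (h1 _).2 (by rw [β.apply_symm_apply]; exact x.2)⟩
       left_inv := fun x => Subtype.ext (β.symm_apply_apply x)
       right_inv := fun x => Subtype.ext (β.apply_symm_apply x)
       map_mul' := fun x y => Subtype.ext (map_mul β _ _) } : S.L ≃* S.L) (by
      ext x
      constructor
      · rintro ⟨y, hy, rfl⟩
        exact (h2 y).1 hy
      · intro hx
        refine ⟨⟨β.symm x, (h1 _).2 (by rw [β.apply_symm_apply]; exact x.2)⟩, ?_,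
          Subtype.ext (β.apply_symm_apply x)⟩
        exact (h2 _).2 (show β (β.symm (x : K)) ∈ S.M by rw [β.apply_symm_apply]; exact hx))

theorem autX_cls (β : MulAut K) (h1 : ∀ x, x ∈ S.L ↔ β x ∈ S.L) (h2 : ∀ x, x ∈ S.M ↔ β x ∈ S.M) (x : S.L) :
    S.autX β h1 h2 (S.cls x) = S.cls ⟨β x, (h1 x).1 x.2⟩ := rfl

/-- Conjugation. -/
def act : K →* MulAut S.X where
  toFun k := S.autX (MulAut.conj k) (fun x => (conj_mem_iff S.hL k x).symm)
    (fun x => (conj_mem_iff S.hM k x).symm)
  map_one' := MulEquiv.ext fun z => by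
    obtain ⟨x, rfl⟩ := S.cls_surjective z
    rw [autX_cls, MulAut.one_apply]
    exact congrArg S.cls (Subtype.ext (by simp))
  map_mul' a b := MulEquiv.ext fun z => by
    obtain ⟨x, rfl⟩ := S.cls_surjective z
    rw [autX_cls, MulAut.mul_apply, autX_cls, autX_cls]
    exact congrArg S.cls (Subtype.ext (by simp [mul_assoc]))

theorem act_cls (k : K) (x : S.L) :
    S.act k (S.cls x) = S.cls ⟨k * x * k⁻¹, S.hL.conj_mem _ x.2 k⟩ := rfl

theorem act_cls_eq_iff (k : K) (x y : S.L) :
    S.act k (S.cls x) = S.cls y ↔ k * x * k⁻¹ * (y : K)⁻¹ ∈ S.M := by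
  rw [act_cls, cls_eq]
  constructor
  · intro h
    have := S.hM.conj_mem _ (S.M.inv_mem h) (y : K)
    rw [mul_inv_rev, inv_inv] at this
    have h2 := S.hM.conj_mem _ this ((y : K)⁻¹)
    rw [inv_inv] at h2
    have h3 := S.hM.conj_mem _ h2 (k * x * k⁻¹)
    simpa [mul_assoc] using h3
  · intro h
    have h3 := S.hM.conj_mem _ (S.M.inv_mem h) (k * x * k⁻¹)⁻¹
    simpa [mul_assoc] using h3

/-- Centralising the section. -/
def Cent (k : K) : Prop := ∀ x ∈ S.L, k * x * k⁻¹ * x⁻¹ ∈ S.M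

/-- Fixing only the trivial element of the section. -/
def Free (k : K) : Prop := ∀ x ∈ S.L, k * x * k⁻¹ * x⁻¹ ∈ S.M → x ∈ S.M

theorem act_eq_one {k : K} (h : S.Cent k) : S.act k = 1 := MulEquiv.ext fun z => by
  obtain ⟨x, rfl⟩ := S.cls_surjective z
  rw [MulAut.one_apply, act_cls_eq_iff]
  exact h x x.2

theorem eq_one_of_free {k : K} (h : S.Free k) (z : S.X) (e : S.act k z = z) : z = 1 := by
  obtain ⟨x, rfl⟩ := S.cls_surjective z
  rw [act_cls_eq_iff] at e
  exact S.cls_eq_one.2 (h x x.2 e)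

theorem not_cent_of_free {k : K} (h : S.Free k) (hne : ¬ S.L ≤ S.M) : ¬ S.Cent k := fun hc =>
  hne fun x hx => h x hx (hc x hx)

end Sec

end Cfsg.Agent.Char.TwoComp
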