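import Cfsg.Agent.Lib.Char.TwoCompDegrees.Section
import Cfsg.Agent.Lib.Char.KerPPrime
import Cfsg.Agent.Lib.Char.CliffordGen
import Cfsg.Agent.Lib.Char.GlaubermanOver
import Cfsg.Agent.Lib.Char.DegreeDvd
import Cfsg.Agent.Lib.Char.Inflate

/-!
# The stabiliser common to all linear characters of the derived subgroup
-/

set_option autoImplicit false
set_option linter.unusedSectionVars false
set_option linter.style.haveILetI false

open scoped commutatorElement

namespace Cfsg.Agent.Char.TwoComp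

open Cfsg

universe u
variable {K : Type u} [Group K] [Fintype K]

/-- An automorphism of `r`-power order with inner `r`-th power fixing all nonlinear characters, the
nonlinear degrees forming an antichain of numbers prime to `r`, and a moved element of prime power
order prime to the derived subgroup. -/
structure Data (K : Type u) [Group K] [Fintype K] (α : MulAut K) (r : ℕ) : Prop where
  prime : r.Prime
  inner : ∃ k, α ^ r = MulAut.conj k
  rpow : ∃ j, α ^ r ^ j = 1
  fix : ∀ χ : IrrCharacter K, deg (χ : K → ℂ) ≠ 1 → irrComp α χ = χ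
  cop : ∀ χ : IrrCharacter K, deg (χ : K → ℂ) ≠ 1 → ¬ r ∣ deg (χ : K → ℂ)
  anti : ∀ χ ψ : IrrCharacter K, deg (χ : K → ℂ) ≠ 1 → deg (χ : K → ℂ) ∣ deg (ψ : K → ℂ) →
    deg (ψ : K → ℂ) = deg (χ : K → ℂ)
  elem : ∃ g, Moved α g ∧ (orderOf g).Coprime (Nat.card (commutator K)) ∧ Moved α (α g * g⁻¹)
  nonab : ∃ χ : IrrCharacter K, deg (χ : K → ℂ) ≠ 1

variable {α : MulAut K} {r : ℕ}

theorem char_one_ne_one_iff (χ : IrrCharacter K) : (χ : K → ℂ) 1 ≠ 1 ↔ deg (χ : K → ℂ) ≠ 1 := by
  rw [char_one_eq_deg (irr_isCharacter χ.2), Nat.cast_ne_one]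

theorem of_mul_mem {x y : K} (h : x * y⁻¹ ∈ commutator K) : Abelianization.of x = Abelianization.of y := by
  rw [← mul_inv_eq_one, ← map_inv, ← map_mul, of_eq_one_iff]
  exact h

theorem comm_mem (a b : K) : a * b * a⁻¹ * b⁻¹ ∈ commutator K :=
  Subgroup.commutator_mem_commutator (Subgroup.mem_top a) (Subgroup.mem_top b)

namespace Data

variable (hd : Data K α r)
include hd

theorem fix' : ∀ χ : IrrCharacter K, (χ : K → ℂ) 1 ≠ 1 → irrComp α χ = χ := fun χ h =>
  hd.fix χ ((char_one_ne_one_iff χ).1 h)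

theorem stable {x : K} (hx : x ∈ commutator K) : ∃ k, α x = k * x * k⁻¹ := by
  obtain ⟨c, hc⟩ := isConj_iff.1 ((classes_over_cosets α hd.fix').2 x (not_moved_of_mem α hx))
  exact ⟨c, hc.symm⟩

theorem mem_iff {N : Subgroup K} (hN : N.Normal) (hle : N ≤ commutator K) (x : K) : x ∈ N ↔ α x ∈ N := by
  constructor
  · intro hx
    obtain ⟨k, hk⟩ := hd.stable (hle hx)
    rw [hk]
    exact hN.conj_mem x hx k
  · intro hx
    have hxR : x ∈ commutator K := by
      have h1 := Subgroup.mem_map_of_mem α.symm.toMonoidHom (hle hx)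
      rw [_root_.commutator, Subgroup.map_commutator, Subgroup.map_top_of_surjective _ α.symm.surjective,
        ← _root_.commutator] at h1
      simpa using h1
    obtain ⟨k, hk⟩ := hd.stable hxR
    have := hN.conj_mem _ hx k⁻¹
    rw [hk] at this
    simpa [mul_assoc] using this

theorem supplement : ∃ g : K, (∀ a b : K, g * a = a * g → g * b = b * g → a * b = b * a) ∧
    ∀ x : K, ∃ z ∈ commutator K, ∃ y : K, g * y = y * g ∧ x = z * y := by
  obtain ⟨g, hg, hcop, -⟩ := hd.elem
  have hfree : ∀ z ∈ commutator K, g * z = z * g → z = 1 := fun z hz hc => by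
    have hconj := (classes_over_cosets α hd.fix').1 g hg (g * z) (by rw [map_mul, of_eq_one_iff.2 hz, mul_one])
    have ho : orderOf (g * z) = orderOf g := by
      obtain ⟨c, hc'⟩ := isConj_iff.1 hconj
      rw [← hc']
      exact orderOf_injective (MulAut.conj c).toMonoidHom (MulEquiv.injective _) g
    have hzo : orderOf z ∣ Nat.card (commutator K) := by
      rw [← Subgroup.orderOf_mk z hz]; exact orderOf_dvd_natCard _
    rw [(show Commute g z from hc).orderOf_mul_eq_mul_orderOf_of_coprime (hcop.coprime_dvd_right hzo)] at ho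
    exact orderOf_eq_one_iff.1 ((Nat.mul_eq_left (orderOf_pos g).ne').1 ho)
  refine ⟨g, fun a b ha hb => ?_, fun x => ?_⟩
  · have hcomm : g * (a * b * a⁻¹ * b⁻¹) = a * b * a⁻¹ * b⁻¹ * g :=
      ((((show Commute g a from ha).mul_right hb).mul_right (Commute.inv_right ha)).mul_right
        (Commute.inv_right hb))
    have := hfree _ (comm_mem a b) hcomm
    rwa [mul_inv_eq_one, mul_inv_eq_iff_eq_mul] at this
  · let f : commutator K → commutator K := fun z => ⟨(z : K) * g * (z : K)⁻¹ * g⁻¹, comm_mem (z : K) g⟩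
    have hinj : Function.Injective f := by
      intro a b e
      have e' : (a : K) * g * (a : K)⁻¹ * g⁻¹ = (b : K) * g * (b : K)⁻¹ * g⁻¹ := congrArg Subtype.val e
      have h1 := hfree _ ((commutator K).mul_mem ((commutator K).inv_mem b.2) a.2) (by
        have e2 : (a : K) * g * (a : K)⁻¹ = (b : K) * g * (b : K)⁻¹ := mul_right_cancel e'
        calc g * ((b : K)⁻¹ * a) = (b : K)⁻¹ * ((b : K) * g * (b : K)⁻¹) * a := by group
          _ = (b : K)⁻¹ * ((a : K) * g * (a : K)⁻¹) * a := by rw [e2]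
          _ = (b : K)⁻¹ * a * g := by group)
      exact Subtype.ext (inv_mul_eq_one.1 h1).symm
    obtain ⟨z, hz⟩ := (Finite.injective_iff_surjective.1 hinj) ⟨_, comm_mem x g⟩
    have e : (z : K) * g * (z : K)⁻¹ * g⁻¹ = x * g * x⁻¹ * g⁻¹ := congrArg Subtype.val hz
    refine ⟨z, z.2, (z : K)⁻¹ * x, ?_, (mul_inv_cancel_left _ _).symm⟩
    calc g * ((z : K)⁻¹ * x) = (z : K)⁻¹ * ((z : K) * g * (z : K)⁻¹) * x := by group
      _ = (z : K)⁻¹ * (x * g * x⁻¹) * x := by rw [mul_right_cancel e]
      _ = (z : K)⁻¹ * x * g := by group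

theorem free_of_moved {v : K} (hv : Moved α v) : ∀ z ∈ commutator K, v * z = z * v → z = 1 := by
  obtain ⟨g, hab, hsup⟩ := hd.supplement
  obtain ⟨z₀, hz₀, y, hy, rfl⟩ := hsup v
  have hof : Abelianization.of (z₀ * y) = Abelianization.of y := by rw [map_mul, of_eq_one_iff.2 hz₀, one_mul]
  have hyM : Moved α y := by
    have h2 : Abelianization.of (α (z₀ * y)) = Abelianization.of (α y) := by
      have h3 := congrArg (Abelianization.map α.toMonoidHom) hof
      rw [Abelianization.map_of, Abelianization.map_of] at h3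
      exact h3
    intro e
    exact hv (by rw [h2, e, hof])
  let f : commutator K → commutator K := fun z => ⟨(z : K) * y * (z : K)⁻¹ * y⁻¹, comm_mem (z : K) y⟩
  have hsurj : Function.Surjective f := by
    rintro ⟨t, ht⟩
    obtain ⟨c, hc⟩ := isConj_iff.1 ((classes_over_cosets α hd.fix').1 y hyM (t * y)
      (by rw [map_mul, of_eq_one_iff.2 ht, one_mul]))
    obtain ⟨z, hz, y', hy', rfl⟩ := hsup c
    refine ⟨⟨z, hz⟩, Subtype.ext ?_⟩
    show z * y * z⁻¹ * y⁻¹ = t
    rw [show z * y' * y * (z * y')⁻¹ = z * (y' * y) * (y'⁻¹ * z⁻¹) by group, hab y' y hy' hy] at hc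
    calc z * y * z⁻¹ * y⁻¹ = z * (y * y') * (y'⁻¹ * z⁻¹) * y⁻¹ := by group
      _ = t * y * y⁻¹ := by rw [hc]
      _ = t := mul_inv_cancel_right _ _
  have hyfree : ∀ z ∈ commutator K, y * z = z * y → z = 1 := fun z hz hc => by
    have h1 : f ⟨z, hz⟩ = f 1 := Subtype.ext (by
      show z * y * z⁻¹ * y⁻¹ = (1 : K) * y * (1 : K)⁻¹ * y⁻¹
      rw [← hc]; group)
    exact congrArg Subtype.val ((Finite.injective_iff_surjective.2 hsurj) h1)
  obtain ⟨c, hc⟩ := isConj_iff.1 ((classes_over_cosets α hd.fix').1 y hyM (z₀ * y) hof)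
  intro z hz hcz
  have hcz' : y * (c⁻¹ * z * c) = c⁻¹ * z * c * y := by
    calc y * (c⁻¹ * z * c) = c⁻¹ * (c * y * c⁻¹ * z) * c := by group
      _ = c⁻¹ * (z * (c * y * c⁻¹)) * c := by rw [hc, hcz]
      _ = c⁻¹ * z * c * y := by group
  have := hyfree _ (by simpa using (inferInstance : (commutator K).Normal).conj_mem z hz c⁻¹) hcz'
  calc z = c * (c⁻¹ * z * c) * c⁻¹ := by group
    _ = 1 := by rw [this]; group

/-- A moved element fixes nothing in a section below the derived subgroup. -/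
theorem sec_free {v : K} (hv : Moved α v) (S : Sec K) (hL : S.L ≤ commutator K) : S.Free v := by
  intro x hx hxM
  let g : K → K := fun z => v * z * v⁻¹ * z⁻¹
  have hinj : ∀ a ∈ commutator K, ∀ b ∈ commutator K, g a = g b → a = b := fun a ha b hb e => by
    have h1 := hd.free_of_moved hv _ ((commutator K).mul_mem ((commutator K).inv_mem ha) hb) (by
      have e' : v * a * v⁻¹ * a⁻¹ = v * b * v⁻¹ * b⁻¹ := e
      calc v * (a⁻¹ * b) = (v * a⁻¹ * v⁻¹) * (v * b * v⁻¹ * b⁻¹) * b * v := by group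
        _ = (v * a⁻¹ * v⁻¹) * (v * a * v⁻¹ * a⁻¹) * b * v := by rw [e']
        _ = a⁻¹ * b * v := by group)
    exact inv_mul_eq_one.1 h1
  let f : S.M → S.M := fun m => ⟨g m, S.M.mul_mem (S.hM.conj_mem _ m.2 v) (S.M.inv_mem m.2)⟩
  have hfi : Function.Injective f := fun a b e => Subtype.ext
    (hinj _ (hL (S.le a.2)) _ (hL (S.le b.2)) (congrArg Subtype.val e))
  obtain ⟨m, hm⟩ := (Finite.injective_iff_surjective.1 hfi) ⟨g x, hxM⟩
  rw [← hinj _ (hL (S.le m.2)) _ (hL hx) (congrArg Subtype.val hm)]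
  exact m.2

end Data

/-- The stabiliser of a linear character of the derived subgroup. -/
def stab (l : commutator K →* ℂˣ) : Subgroup K where
  carrier := {x | ∀ n, l (MulAut.conjNormal x n) = l n}
  one_mem' := fun n => by rw [map_one, MulAut.one_apply]
  mul_mem' := fun {a b} ha hb n => by rw [map_mul, MulAut.mul_apply, ha, hb]
  inv_mem' := fun {a} ha n => by rw [← ha, map_inv, MulAut.apply_inv_self]

theorem commutator_le_stab (l : commutator K →* ℂˣ) : commutator K ≤ stab l := fun x hx n => by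
  rw [show MulAut.conjNormal x n = (⟨x, hx⟩ : commutator K) * n * (⟨x, hx⟩ : commutator K)⁻¹ from
    Subtype.ext (by simp [MulAut.conjNormal_apply]), map_mul, map_mul, map_inv, mul_comm, inv_mul_cancel_left]

instance stab_normal (l : commutator K →* ℂˣ) : (stab l).Normal :=
  ⟨fun x hx g => by
    rw [show g * x * g⁻¹ = g * x * g⁻¹ * x⁻¹ * x by group]
    exact (stab l).mul_mem (commutator_le_stab l (comm_mem g x)) hx⟩

theorem deg_eq_one_of_trivial {H : Type u} [Group H] [Fintype H] (χ : IrrCharacter H)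
    (h : ∀ n ∈ commutator H, (χ : H → ℂ) n = (χ : H → ℂ) 1) : deg (χ : H → ℂ) = 1 := by
  haveI := Fintype.ofFinite (H ⧸ commutator H)
  obtain ⟨ψ, hψ⟩ := exists_deflate (commutator H) χ.2 h
  have h1 := forall_linear_iff_comm.1 (fun a b => show ((a : Abelianization H) * b : Abelianization H) = b * a from mul_comm _ _) ψ
  apply Nat.cast_injective (R := ℂ)
  rw [← char_one_eq_deg (irr_isCharacter χ.2), Nat.cast_one, ← h1]
  exact (hψ 1).symm

/-- A character over a nontrivial linear character of the derived subgroup is nonlinear. -/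
theorem deg_ne_one_over (N : Subgroup K) [N.Normal] [Fintype N] (hN : N ≤ commutator K) {l : N →* ℂˣ}
    (hl : l ≠ 1) (χ : IrrCharacter K)
    (h : classInner (fun n : N => (χ : K → ℂ) n) (fun n => (l n : ℂ)) ≠ 0) : deg (χ : K → ℂ) ≠ 1 := by
  intro h1
  obtain ⟨μ, hμ⟩ := exists_hom_of_degree_one (irr_isCharacter χ.2)
    (by rw [char_one_eq_deg (irr_isCharacter χ.2), h1, Nat.cast_one])
  have hμ1 : ∀ n : N, (χ : K → ℂ) n = 1 := fun n => by
    rw [hμ]
    show (μ (n : K) : ℂ) = 1
    have : commutator K ≤ μ.ker := Abelianization.commutator_subset_ker μ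
    rw [MonoidHom.mem_ker.1 (this (hN n.2)), Units.val_one]
  refine h ?_
  rw [show (fun n : N => (χ : K → ℂ) n) = fun _ => (1 : ℂ) from funext hμ1,
    irr_orth isIrrCharacter_one (isIrrCharacter_linear l), if_neg]
  exact fun e => hl (MonoidHom.ext fun n => Units.ext (congrFun e n).symm)

/-- A character over a linear character of the derived subgroup has degree the index of the stabiliser. -/
theorem Data.deg_over_linear (hd : Data K α r) [Fintype (commutator K)] (l : commutator K →* ℂˣ)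
    (χ : IrrCharacter K)
    (h : classInner (fun n : commutator K => (χ : K → ℂ) n) (fun n => (l n : ℂ)) ≠ 0) :
    deg (χ : K → ℂ) = (stab l).index := by
  classical
  obtain ⟨T, ψ, e, hNT, hψ, hind, -, hT, hres, -⟩ :=
    exists_correspondent χ.2 (commutator K) ⟨_, isIrrCharacter_linear l⟩ h
  have hTs : T = stab l := by
    ext x
    rw [hT]
    exact ⟨fun e n => Units.ext (congrFun (congrArg Subtype.val e) n),
      fun e => Subtype.ext (funext fun n => congrArg Units.val (e n))⟩
  subst hTs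
  haveI := Fintype.ofFinite (stab l)
  obtain ⟨g, hab, hsup⟩ := hd.supplement
  have hker : ∀ a b : stab l, ∀ hc : ((a * b * a⁻¹ * b⁻¹ : stab l) : K) ∈ commutator K,
      l ⟨_, hc⟩ = 1 := by
    rintro ⟨a, ha⟩ ⟨b, hb⟩ hc
    obtain ⟨z, hz, y, hy, rfl⟩ := hsup a
    obtain ⟨z', hz', y', hy', rfl⟩ := hsup b
    have hys : y ∈ stab l := by simpa using (stab l).mul_mem ((stab l).inv_mem (commutator_le_stab l hz)) ha
    have hys' : y' ∈ stab l := by simpa using (stab l).mul_mem ((stab l).inv_mem (commutator_le_stab l hz')) hb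
    have hcy : y * y' * y⁻¹ = y' := by rw [hab y y' hy hy', mul_inv_cancel_right]
    have e : (⟨_, hc⟩ : commutator K) = ⟨z, hz⟩ * MulAut.conjNormal y ⟨z', hz'⟩ *
        MulAut.conjNormal y' ⟨z, hz⟩⁻¹ * ⟨z', hz'⟩⁻¹ := Subtype.ext (by
      show z * y * (z' * y') * (z * y)⁻¹ * (z' * y')⁻¹ = z * (y * z' * y⁻¹) * (y' * z⁻¹ * y'⁻¹) * z'⁻¹
      calc z * y * (z' * y') * (z * y)⁻¹ * (z' * y')⁻¹
          = z * (y * z' * y⁻¹) * ((y * y' * y⁻¹) * z⁻¹ * y'⁻¹) * z'⁻¹ := by group
        _ = _ := by rw [hcy])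
    rw [e, map_mul, map_mul, map_mul, hys ⟨z', hz'⟩, hys' ⟨z, hz⟩⁻¹, map_inv, map_inv]
    rw [mul_comm (l ⟨z, hz⟩), mul_inv_cancel_right, mul_inv_cancel]
  have hψ1 : deg ψ = 1 := by
    refine deg_eq_one_of_trivial ⟨ψ, hψ⟩ fun x hx => ?_
    obtain ⟨d, ρ, hρi, rfl⟩ := id hψ
    suffices hx' : x ∈ ρ.ker by
      show ρ.character x = ρ.character 1
      simp only [Representation.character]
      rw [MonoidHom.mem_ker.1 hx', map_one ρ]
    revert x hx
    show commutator (stab l) ≤ ρ.ker
    rw [commutator_def, Subgroup.commutator_le]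
    intro a _ b _
    have hc : ((a * b * a⁻¹ * b⁻¹ : stab l) : K) ∈ commutator K := by simpa using comm_mem (a : K) b
    have h1 := hres ⟨_, hc⟩
    have h2 := hres 1
    rw [show (⟨fun n => (l n : ℂ), isIrrCharacter_linear l⟩ : IrrCharacter (commutator K)).1 ⟨_, hc⟩ =
      (l ⟨_, hc⟩ : ℂ) from rfl, hker a b hc, Units.val_one, mul_one] at h1
    rw [show (⟨fun n => (l n : ℂ), isIrrCharacter_linear l⟩ : IrrCharacter (commutator K)).1 1 =
      (l 1 : ℂ) from rfl, map_one, map_one, Units.val_one, mul_one] at h2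
    rw [commutatorElement_def, MonoidHom.mem_ker]
    refine (eq_id_iff ρ _).1 ?_
    rw [← Representation.char_one ρ]
    exact h1.trans h2.symm
  apply Nat.cast_injective (R := ℂ)
  rw [← char_one_eq_deg (irr_isCharacter χ.2), hind, indFun_one, char_one_eq_deg (irr_isCharacter hψ), hψ1,
    Nat.cast_one, mul_one]

end Cfsg.Agent.Char.TwoComp
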