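import Cfsg.Agent.Lib.Char.TwoCompDegrees.Bound

/-!
# The abelianisation of the derived subgroup is a q-group
-/

set_option autoImplicit false
set_option linter.unusedSectionVars false
set_option linter.style.haveILetI false

namespace Cfsg.Agent.Char.TwoComp

open Cfsg

universe u
variable {K : Type u} [Group K] [Fintype K] {α : MulAut K} {r : ℕ} {C : Subgroup K}

theorem Common.exists_top_prime [Group.IsSolvable K] (hC : Common α r C) :
    ∃ q a : ℕ, q.Prime ∧ a ≠ 0 ∧ Nat.card (secA K).X = q ^ a ∧ ¬ q ∣ C.index ∧ (r = 2 → q = 2) := by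
  obtain ⟨σ, act, τ, hσ, hact, hfree, hcomp, hτ, horb⟩ :=
    hC.exists_package (secA K) le_rfl (fun c hc => hC.cent hc) (fun y hy => hC.free hy)
  haveI := (secA K).nontrivial_X hC.not_le
  have h1 : Nat.card (secA K).X ≠ 1 := (Finite.one_lt_card (α := (secA K).X)).ne'
  obtain ⟨q, hq, hqd⟩ := Nat.exists_prime_and_dvd h1
  haveI := Fact.mk hq
  have huniq : ∀ p : ℕ, p.Prime → p ∣ Nat.card (secA K).X → p = q := by
    intro p hp hpd
    by_contra hpq
    haveI := Fact.mk hp
    obtain ⟨x₂, hx₂⟩ := exists_prime_orderOf_dvd_card' p hpd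
    have hx2 : x₂ ≠ 1 := fun e => hp.ne_one (by rw [← hx₂, e, orderOf_one])
    obtain ⟨u₂, hu₂⟩ := horb x₂
    have hloc : ∀ x₁ : (secA K).X, orderOf x₁ = q → τ x₁ = act u₂ x₁ := by
      intro x₁ hx₁
      have hx1 : x₁ ≠ 1 := fun e => hq.ne_one (by rw [← hx₁, e, orderOf_one])
      obtain ⟨u₁, hu₁⟩ := horb x₁
      obtain ⟨u, hu⟩ := horb (x₁ * x₂)
      rw [map_mul, map_mul, hu₁, hu₂] at hu
      have e : (act u x₁)⁻¹ * act u₁ x₁ = act u x₂ * (act u₂ x₂)⁻¹ := by
        rw [inv_mul_eq_iff_eq_mul, ← mul_assoc, eq_mul_inv_iff_mul_eq, hu]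
      have hpow : ∀ (v : UQ C) (x : (secA K).X), (act v x) ^ orderOf x = 1 := fun v x => by
        rw [← map_pow, pow_orderOf_eq_one, map_one]
      have ha : ((act u x₁)⁻¹ * act u₁ x₁) ^ q = 1 := by
        rw [mul_pow, inv_pow, ← hx₁, hpow, hpow, inv_one, one_mul]
      have hb : ((act u x₁)⁻¹ * act u₁ x₁) ^ p = 1 := by
        rw [e, mul_pow, inv_pow, ← hx₂, hpow, hpow, inv_one, one_mul]
      have h0 := pow_gcd_eq_one.2 ⟨ha, hb⟩
      rw [((Nat.coprime_primes hq hp).2 (Ne.symm hpq)).gcd_eq_one, pow_one] at h0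
      have e1 : u = u₁ := act_eq σ act τ hfree hcomp hτ horb hx1 (inv_mul_eq_one.1 h0)
      rw [h0, eq_comm, mul_inv_eq_one] at e
      have e2 : u = u₂ := act_eq σ act τ hfree hcomp hτ horb hx2 e
      rw [hu₁, ← e1, e2]
    obtain ⟨x₁, hx₁⟩ := exists_prime_orderOf_dvd_card' q hqd
    have hx1 : x₁ ≠ 1 := fun e => hq.ne_one (by rw [← hx₁, e, orderOf_one])
    obtain ⟨g, hg⟩ := hC.exists_moved_diff
    refine hg ?_
    rw [← hC.ker_mkU, MonoidHom.mem_ker, map_mul, map_inv, mul_inv_eq_one, ← hσ]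
    have h2 := hcomp (mkU C g) x₁
    rw [hloc x₁ hx₁, hloc _ (by rw [← hx₁]; exact MulEquiv.orderOf_eq (act (mkU C g)) x₁), ← MulAut.mul_apply,
      ← map_mul, ← MulAut.mul_apply, ← map_mul, mul_comm (σ (mkU C g))] at h2
    exact (mul_left_cancel (act_eq σ act τ hfree hcomp hτ horb hx1 h2))
  have hcard : Nat.card (secA K).X = q ^ (Nat.card (secA K).X).factorization q :=
    Nat.eq_prime_pow_of_unique_prime_dvd Nat.card_pos.ne' (fun {p} hp hpd => huniq p hp hpd) |>.trans (by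
      congr 1
      conv_rhs => rw [Nat.eq_prime_pow_of_unique_prime_dvd (n := Nat.card (secA K).X) Nat.card_pos.ne'
        (fun {p} hp hpd => huniq p hp hpd)]
      rw [hq.factorization_pow, Finsupp.single_eq_same])
  refine ⟨q, _, hq, fun h => h1 (by rw [hcard, h, pow_zero]), hcard, fun hqC => ?_, fun h2 => ?_⟩
  · have h3 := card_range_dvd act (MonoidHom.id (UQ C)) fun x hx t ht => by
      by_contra hne
      exact hx (hfree t hne x ht)
    rw [MonoidHom.range_eq_top.2 (fun x => ⟨x, rfl⟩), Subgroup.card_top, hC.card_UQ] at h3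
    have h4 : 0 < Nat.card (secA K).X := Nat.card_pos
    have := (Nat.dvd_sub hqd (hqC.trans h3))
    rw [show Nat.card (secA K).X - (Nat.card (secA K).X - 1) = 1 by omega] at this
    exact hq.ne_one (Nat.dvd_one.1 this)
  · exact (huniq 2 Nat.prime_two (hC.prime_two le_rfl (fun c hc => hC.cent hc) (fun y hy => hC.free hy)
      hC.not_le h2)).symm

end Cfsg.Agent.Char.TwoComp
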